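import Mathlib

/-!
# Asymmetric subsets of abelian groups of odd order
-/

namespace Cfsg.Agent.H10.BaseTwo

/-- If `φ² x = x` and `φ^[k] x = x` with `k` odd then `φ x = x`. -/
theorem fix_of_sq_of_odd {X : Type*} (φ : X → X) {k : ℕ} (hk : Odd k) {x : X}
    (h2 : φ (φ x) = x) (hkx : φ^[k] x = x) : φ x = x := by
  have hp : Function.IsPeriodicPt φ (Nat.gcd 2 k) x :=
    Function.IsPeriodicPt.gcd (show Function.IsPeriodicPt φ 2 x from h2) hkx
  rwa [show Nat.gcd 2 k = 1 from (Nat.coprime_two_left.2 hk)] at hp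

theorem adjacent_involutive {m : ℕ} (π : Fin m → Fin m) (hinj : Function.Injective π)
    (hadj : ∀ i j : Fin m, (j : ℕ) = i + 1 → (π j : ℕ) = π i + 1 ∨ (π i : ℕ) = π j + 1) :
    ∀ i, π (π i) = i := by
  rcases Nat.lt_or_ge m 2 with hm | hm
  · intro i; apply Fin.ext; omega
  have hne : ∀ i j : Fin m, (i : ℕ) ≠ j → (π i : ℕ) ≠ π j := fun i j h hh =>
    h (congrArg Fin.val (hinj (Fin.ext hh)))
  let p : Fin m := ⟨0, by omega⟩
  let q : Fin m := ⟨1, by omega⟩
  have hsurj := Finite.injective_iff_surjective.1 hinj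
  rcases hadj p q rfl with hup | hdown
  · have key : ∀ (n : ℕ) (i : Fin m), (i : ℕ) = n → (π i : ℕ) = π p + n := by
      intro n
      induction n using Nat.strong_induction_on with
      | _ n ih =>
        intro i hi
        match n with
        | 0 => rw [show i = p from Fin.ext hi]; rfl
        | 1 => rw [show i = q from Fin.ext hi]; exact hup
        | n + 2 =>
          have h1 := ih n (by omega) ⟨n, by omega⟩ rfl
          have h2 := ih (n + 1) (by omega) ⟨n + 1, by omega⟩ rfl
          have h3 := hne i ⟨n, by omega⟩ (by simp; omega)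
          rcases hadj ⟨n + 1, by omega⟩ i (by simpa using hi) with h | h <;> omega
    obtain ⟨i₀, hi₀⟩ := hsurj p
    have h0 := key _ i₀ rfl
    rw [hi₀] at h0
    have hp0 : (π p : ℕ) = 0 := by
      have : (p : ℕ) = 0 := rfl
      omega
    intro i
    have := key _ i rfl
    have := key _ (π i) rfl
    apply Fin.ext
    omega
  · have key : ∀ (n : ℕ) (i : Fin m), (i : ℕ) = n → (π i : ℕ) + n = π p := by
      intro n
      induction n using Nat.strong_induction_on with
      | _ n ih =>
        intro i hi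
        match n with
        | 0 => rw [show i = p from Fin.ext hi]; rfl
        | 1 => rw [show i = q from Fin.ext hi]; exact hdown.symm
        | n + 2 =>
          have h1 := ih n (by omega) ⟨n, by omega⟩ rfl
          have h2 := ih (n + 1) (by omega) ⟨n + 1, by omega⟩ rfl
          have h3 := hne i ⟨n, by omega⟩ (by simp; omega)
          rcases hadj ⟨n + 1, by omega⟩ i (by simpa using hi) with h | h <;> omega
    obtain ⟨i₀, hi₀⟩ := hsurj ⟨m - 1, by omega⟩
    have h0 := key _ i₀ rfl
    rw [hi₀] at h0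
    simp only at h0
    have hlt := (π p).2
    intro i
    have := key _ i rfl
    have := key _ (π i) rfl
    apply Fin.ext
    omega

theorem zmod_facts {n : ℕ} (hn : 3 ≤ n) :
    (1 : ZMod n) ≠ 0 ∧ (-1 : ZMod n) ≠ 0 ∧ (-1 : ZMod n) ≠ 1 := by
  haveI : Fact (1 < n) := ⟨by omega⟩
  refine ⟨one_ne_zero, neg_ne_zero.2 one_ne_zero, fun h => ?_⟩
  haveI : Fact (2 < n) := ⟨by omega⟩
  exact ZMod.neg_one_ne_one h

/-- A finite abelian group of odd order has generators `b` such that the set of their interval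
products, together with their inverses, has no automorphism of odd order. -/
theorem exists_root_set (X : Type*) [CommGroup X] [Finite X] (hodd : Odd (Nat.card X)) :
    ∃ (m : ℕ) (b : Fin m → X) (D : Set X), (∀ i, b i ∈ D ∧ (b i)⁻¹ ∈ D) ∧
      (∀ i j, i ≤ j → ∏ k ∈ Finset.Icc i j, b k ∈ D) ∧ Subgroup.closure (Set.range b) = ⊤ ∧
      1 ∉ D ∧ ∀ φ : X →* X, Function.Injective φ → ∀ k, Odd k → (∀ x, φ^[k] x = x) →
        (∀ x ∈ D, φ x ∈ D) → ∀ x, φ x = x := by
  classical
  obtain ⟨ι, hι, n0, hn0, ⟨e0⟩⟩ := CommGroup.equiv_prod_multiplicative_zmod_of_finite X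
  let m := Fintype.card ι
  let n : Fin m → ℕ := fun i => n0 ((Fintype.equivFin ι).symm i)
  let e : X ≃* ((i : Fin m) → Multiplicative (ZMod (n i))) :=
    e0.trans
      { toFun := fun f i => f ((Fintype.equivFin ι).symm i)
        invFun := fun f => (Equiv.piCongrLeft' (fun i => Multiplicative (ZMod (n0 i)))
          (Fintype.equivFin ι)).symm f
        left_inv := fun f => (Equiv.piCongrLeft' (fun i => Multiplicative (ZMod (n0 i)))
          (Fintype.equivFin ι)).symm_apply_apply f
        right_inv := fun f => (Equiv.piCongrLeft' (fun i => Multiplicative (ZMod (n0 i)))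
          (Fintype.equivFin ι)).apply_symm_apply f
        map_mul' := fun f g => rfl }
  have hn : ∀ i, 3 ≤ n i := by
    intro i
    have h1 : 1 < n i := hn0 _
    have hdvd : n i ∣ Nat.card X := by
      rw [Nat.card_congr e.toEquiv, Nat.card_pi]
      have h := Finset.dvd_prod_of_mem (fun j => Nat.card (Multiplicative (ZMod (n j))))
        (Finset.mem_univ i)
      rwa [show Nat.card (Multiplicative (ZMod (n i))) = n i from
        (Nat.card_congr Multiplicative.toAdd).trans (Nat.card_zmod _)] at h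
    obtain ⟨c, hc⟩ := hodd.of_dvd_nat hdvd
    omega
  let P : Finset (Fin m) → X := fun S => e.symm fun l => Multiplicative.ofAdd (if l ∈ S then 1 else 0)
  let co : X → (l : Fin m) → ZMod (n l) := fun x l => Multiplicative.toAdd (e x l)
  have hext : ∀ {x y : X}, (∀ l, co x l = co y l) → x = y := fun {x y} h =>
    e.injective (funext fun l => Multiplicative.toAdd.injective (h l))
  have hP : ∀ S l, co (P S) l = if l ∈ S then 1 else 0 := fun S l => by simp [co, P]
  have hmul : ∀ x y l, co (x * y) l = co x l + co y l := fun x y l => by simp [co]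
  have hinv : ∀ x l, co x⁻¹ l = - co x l := fun x l => by simp [co]
  let b : Fin m → X := fun i => P {i}
  have hbl : ∀ i l, co (b i) l = if l = i then 1 else 0 := fun i l => by
    simp [b, hP]
  have hprod : ∀ S : Finset (Fin m), ∏ k ∈ S, b k = P S := by
    intro S
    refine hext fun l => ?_
    induction S using Finset.induction_on with
    | empty => simp [hP, co]
    | insert a S ha ih =>
      rw [Finset.prod_insert ha, hmul, ih, hbl, hP, hP]
      by_cases hla : l = a
      · subst hla; simp [ha]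
      · simp [hla]
  let D : Set X := {x | (∃ i j, i ≤ j ∧ x = P (Finset.Icc i j)) ∨ ∃ i, x = (b i)⁻¹}
  refine ⟨m, b, D, fun i => ⟨Or.inl ⟨i, i, le_rfl, by simp [b]⟩, Or.inr ⟨i, rfl⟩⟩,
    fun i j hij => Or.inl ⟨i, j, hij, hprod _⟩, ?_, ?_, ?_⟩
  · rw [eq_top_iff]
    intro x _
    have : x = ∏ l, b l ^ (co x l).val := by
      refine hext fun l => ?_
      have hpow : ∀ (y : X) (k : ℕ) l, co (y ^ k) l = k • co y l := fun y k l => by simp [co]
      have hsum : ∀ (S : Finset (Fin m)), co (∏ k ∈ S, b k ^ (co x k).val) l =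
          ∑ k ∈ S, co (b k ^ (co x k).val) l := by
        intro S
        induction S using Finset.induction_on with
        | empty => simp [co]
        | insert a S ha ih => rw [Finset.prod_insert ha, Finset.sum_insert ha, hmul, ih]
      rw [hsum, Finset.sum_eq_single l]
      · haveI : NeZero (n l) := ⟨by have := hn l; omega⟩
        rw [hpow, hbl, if_pos rfl, nsmul_one, ZMod.natCast_zmod_val]
      · intro k _ hk
        rw [hpow, hbl, if_neg (Ne.symm hk), nsmul_zero]
      · simp
    rw [this]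
    exact prod_mem fun l _ => pow_mem (Subgroup.subset_closure (Set.mem_range_self l)) _
  · have h1co : ∀ l, co 1 l = 0 := fun l => by simp [co]
    rintro (⟨i, j, hij, h⟩ | ⟨i, h⟩)
    · have := h1co i
      rw [h, hP, if_pos (Finset.mem_Icc.2 ⟨le_rfl, hij⟩)] at this
      exact (zmod_facts (hn i)).1 this
    · have := h1co i
      rw [h, hinv, hbl, if_pos rfl] at this
      exact (zmod_facts (hn i)).2.1 this
  intro φ hφ k hk hiter hD
  -- elements of `D` whose inverse is in `D`
  have hpm : ∀ x ∈ D, x⁻¹ ∈ D → ∃ i, x = b i ∨ x = (b i)⁻¹ := by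
    intro x hx hx'
    rcases hx with ⟨i, j, hij, rfl⟩ | ⟨i, rfl⟩
    · rcases hx' with ⟨p, q, hpq, h⟩ | ⟨p, h⟩
      · have h' := congrArg (fun y => co y i) h
        simp only [hinv, hP, if_pos (Finset.mem_Icc.2 ⟨le_refl i, hij⟩)] at h'
        split_ifs at h' with h2
        · exact absurd h' (zmod_facts (hn i)).2.2
        · exact absurd h' (zmod_facts (hn i)).2.1
      · exact ⟨p, Or.inl (inv_injective h)⟩
    · exact ⟨i, Or.inr rfl⟩
  have hbD : ∀ i, b i ∈ D ∧ (b i)⁻¹ ∈ D :=
    fun i => ⟨Or.inl ⟨i, i, le_rfl, by simp [b]⟩, Or.inr ⟨i, rfl⟩⟩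
  have himg : ∀ i, ∃ a, φ (b i) = b a ∨ φ (b i) = (b a)⁻¹ := fun i =>
    hpm _ (hD _ (hbD i).1) (by rw [← map_inv]; exact hD _ (hbD i).2)
  choose π hπ using himg
  have hπinj : Function.Injective π := by
    intro i j h
    have hij : b i = b j ∨ b i = (b j)⁻¹ := by
      rcases hπ i with hi | hi <;> rcases hπ j with hj | hj <;> rw [h] at hi
      · exact Or.inl (hφ (hi.trans hj.symm))
      · exact Or.inr (hφ (by rw [map_inv, hj, inv_inv, hi]))
      · exact Or.inr (hφ (by rw [map_inv, hj, hi]))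
      · exact Or.inl (hφ (hi.trans hj.symm))
    by_contra hne
    rcases hij with h' | h'
    · have := congrArg (fun y => co y i) h'
      simp only [hbl, if_neg hne] at this
      exact (zmod_facts (hn i)).1 this
    · have := congrArg (fun y => co y i) h'
      simp only [hinv, hbl, if_neg hne] at this
      exact (zmod_facts (hn i)).1 (by simpa using this)
  have hstep : ∀ i j : Fin m, (j : ℕ) = i + 1 → φ (b i) = b (π i) ∧ φ (b j) = b (π j) ∧
      ((π j : ℕ) = π i + 1 ∨ (π i : ℕ) = π j + 1) := by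
    intro i j hij
    have hle : i ≤ j := Fin.le_def.2 (by omega)
    have hIcc : Finset.Icc i j = {i, j} := by
      ext x
      simp only [Finset.mem_Icc, Finset.mem_insert, Finset.mem_singleton, Fin.le_def, Fin.ext_iff]
      omega
    have hne : i ≠ j := fun h => by subst h; omega
    have hmem := hD _ (show b i * b j ∈ D from
      Or.inl ⟨i, j, hle, by rw [← hprod, hIcc, Finset.prod_pair hne]⟩)
    rw [map_mul] at hmem
    have hπne : π i ≠ π j := fun h => hne (hπinj h)
    have hci : co (φ (b i) * φ (b j)) (π i) = co (φ (b i)) (π i) := by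
      rw [hmul]
      rcases hπ j with hj | hj <;> simp [hj, hinv, hbl, hπne]
    have hcj : co (φ (b i) * φ (b j)) (π j) = co (φ (b j)) (π j) := by
      rw [hmul]
      rcases hπ i with hi | hi <;> simp [hi, hinv, hbl, Ne.symm hπne]
    have hother : ∀ l, l ≠ π i → l ≠ π j → co (φ (b i) * φ (b j)) l = 0 := by
      intro l h1 h2
      rw [hmul]
      rcases hπ i with hi | hi <;> rcases hπ j with hj | hj <;> simp [hi, hj, hinv, hbl, h1, h2]
    have hval : ∀ a, co (φ (b a)) (π a) = 1 ∧ φ (b a) = b (π a) ∨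
        co (φ (b a)) (π a) = -1 := fun a => by
      rcases hπ a with ha | ha
      · exact Or.inl ⟨by simp [ha, hbl], ha⟩
      · exact Or.inr (by simp [ha, hinv, hbl])
    rcases hmem with ⟨p, q, hpq, h⟩ | ⟨p, h⟩
    · rw [h, hP] at hci hcj
      have hi : φ (b i) = b (π i) ∧ π i ∈ Finset.Icc p q := by
        rcases hval i with ⟨h1, h2⟩ | h1 <;> rw [h1] at hci <;> split_ifs at hci with hmem'
        · exact ⟨h2, hmem'⟩
        · exact absurd hci.symm (zmod_facts (hn _)).1
        · exact absurd hci.symm (zmod_facts (hn _)).2.2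
        · exact absurd hci.symm (zmod_facts (hn _)).2.1
      have hj : φ (b j) = b (π j) ∧ π j ∈ Finset.Icc p q := by
        rcases hval j with ⟨h1, h2⟩ | h1 <;> rw [h1] at hcj <;> split_ifs at hcj with hmem'
        · exact ⟨h2, hmem'⟩
        · exact absurd hcj.symm (zmod_facts (hn _)).1
        · exact absurd hcj.symm (zmod_facts (hn _)).2.2
        · exact absurd hcj.symm (zmod_facts (hn _)).2.1
      refine ⟨hi.1, hj.1, ?_⟩
      have hsub : ∀ l, l ∈ Finset.Icc p q → l = π i ∨ l = π j := by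
        intro l hl
        by_contra hc
        push Not at hc
        have h0 := hother l hc.1 hc.2
        rw [h, hP, if_pos hl] at h0
        exact (zmod_facts (hn l)).1 h0
      have hi' := Finset.mem_Icc.1 hi.2
      have hj' := Finset.mem_Icc.1 hj.2
      simp only [Fin.le_def] at hi' hj'
      have hπne' : (π i : ℕ) ≠ π j := fun h => hπne (Fin.ext h)
      by_contra hc
      push Not at hc
      rcases Nat.lt_or_ge (π i : ℕ) (π j) with hlt | hge
      · have h2 := hsub ⟨(π i : ℕ) + 1, by omega⟩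
          (Finset.mem_Icc.2 ⟨Fin.le_def.2 (by simp only [Fin.val_mk]; omega), Fin.le_def.2 (by simp only [Fin.val_mk]; omega)⟩)
        rcases h2 with h2 | h2 <;> have := congrArg Fin.val h2 <;> simp at this <;> omega
      · have h2 := hsub ⟨(π j : ℕ) + 1, by omega⟩
          (Finset.mem_Icc.2 ⟨Fin.le_def.2 (by simp only [Fin.val_mk]; omega), Fin.le_def.2 (by simp only [Fin.val_mk]; omega)⟩)
        rcases h2 with h2 | h2 <;> have := congrArg Fin.val h2 <;> simp at this <;> omega
    · exfalso
      rw [h, hinv, hbl] at hci hcj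
      by_cases hp : π i = p
      · rw [if_neg (fun h' : π j = p => hπne (hp.trans h'.symm)), neg_zero] at hcj
        rcases hval j with ⟨h1, -⟩ | h1 <;> rw [h1] at hcj
        · exact (zmod_facts (hn _)).1 hcj.symm
        · exact (zmod_facts (hn _)).2.1 hcj.symm
      · rw [if_neg hp, neg_zero] at hci
        rcases hval i with ⟨h1, -⟩ | h1 <;> rw [h1] at hci
        · exact (zmod_facts (hn _)).1 hci.symm
        · exact (zmod_facts (hn _)).2.1 hci.symm
  have hinvol : ∀ i, φ (φ (b i)) = b i := by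
    intro i
    rcases Nat.lt_or_ge m 2 with hm | hm
    · have hone : ∀ a : Fin m, a = i := fun a => Fin.ext (by omega)
      rcases hπ i with hi | hi <;> rw [hone (π i)] at hi
      · rw [hi, hi]
      · rw [hi, map_inv, hi, inv_inv]
    have hpos : ∀ a : Fin m, φ (b a) = b (π a) := by
      intro a
      by_cases ha : (a : ℕ) + 1 < m
      · exact (hstep a ⟨(a : ℕ) + 1, ha⟩ rfl).1
      · exact (hstep ⟨(a : ℕ) - 1, by omega⟩ a (by simp; omega)).2.1
    have := adjacent_involutive π hπinj (fun a c hac => (hstep a c hac).2.2) i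
    rw [hpos, hpos, this]
  intro x
  have hgen : Subgroup.closure (Set.range b) ≤ φ.eqLocus (MonoidHom.id X) := by
    rw [Subgroup.closure_le]
    rintro _ ⟨i, rfl⟩
    exact fix_of_sq_of_odd φ hk (hinvol i) (hiter _)
  refine hgen ?_
  have hx : x = ∏ l, b l ^ (co x l).val := by
    refine hext fun l => ?_
    have hsum : ∀ (S : Finset (Fin m)), co (∏ k ∈ S, b k ^ (co x k).val) l =
        ∑ k ∈ S, (co x k).val • co (b k) l := by
      intro S
      induction S using Finset.induction_on with
      | empty => simp [co]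
      | insert a S ha ih =>
        rw [Finset.prod_insert ha, Finset.sum_insert ha, hmul, ih]
        congr 1
        simp [co]
    rw [hsum, Finset.sum_eq_single l]
    · haveI : NeZero (n l) := ⟨by have := hn l; omega⟩
      rw [hbl, if_pos rfl, nsmul_one, ZMod.natCast_zmod_val]
    · intro k _ hk
      rw [hbl, if_neg (Ne.symm hk), nsmul_zero]
    · simp
  rw [hx]
  exact prod_mem fun l _ => pow_mem (Subgroup.subset_closure (Set.mem_range_self l)) _

theorem four_values : ∀ a b c d : Fin 4, a ≠ b → a ≠ c → a ≠ d → b ≠ c → b ≠ d → c ≠ d →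
    ((a = 0 ∧ d = 3) ∨ (a = 3 ∧ d = 0) ∨ (a = 1 ∧ d = 2) ∨ (a = 2 ∧ d = 1)) →
    ∀ i, ![a, b, c, d] (![a, b, c, d] (![a, b, c, d] (![a, b, c, d] i))) = i := by
  set_option maxRecDepth 20000 in decide

theorem four_perm (σ : Fin 4 → Fin 4) (hσ : Function.Injective σ)
    (h : (σ 0 = 0 ∧ σ 3 = 3) ∨ (σ 0 = 3 ∧ σ 3 = 0) ∨ (σ 0 = 1 ∧ σ 3 = 2) ∨ (σ 0 = 2 ∧ σ 3 = 1))
    (i : Fin 4) : σ (σ (σ (σ i))) = i := by
  have e : σ = ![σ 0, σ 1, σ 2, σ 3] := by funext x; fin_cases x <;> rfl
  rw [e]
  exact four_values _ _ _ _ (hσ.ne (by decide)) (hσ.ne (by decide)) (hσ.ne (by decide))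
    (hσ.ne (by decide)) (hσ.ne (by decide)) (hσ.ne (by decide)) h i

set_option synthInstance.maxSize 4000 in
set_option synthInstance.maxHeartbeats 200000 in
theorem partition_cases : ∀ i j k l : Fin 4, i ≠ j → i ≠ k → i ≠ l → j ≠ k → j ≠ l → k ≠ l →
    ((i = 0 ∧ l = 3) ∨ (i = 3 ∧ l = 0) ∨ (i = 1 ∧ l = 2) ∨ (i = 2 ∧ l = 1)) ∨
    (((i = 0 ∧ l = 1 ∨ i = 1 ∧ l = 0) ∧ (j = 2 ∧ k = 3 ∨ j = 3 ∧ k = 2)) ∨
     ((i = 2 ∧ l = 3 ∨ i = 3 ∧ l = 2) ∧ (j = 0 ∧ k = 1 ∨ j = 1 ∧ k = 0)) ∨
     ((i = 0 ∧ l = 2 ∨ i = 2 ∧ l = 0) ∧ (j = 1 ∧ k = 3 ∨ j = 3 ∧ k = 1)) ∨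
     ((i = 1 ∧ l = 3 ∨ i = 3 ∧ l = 1) ∧ (j = 0 ∧ k = 2 ∨ j = 2 ∧ k = 0))) := by
  set_option maxRecDepth 20000 in decide

/-- An affine map of odd order preserving a parallelogram fixes it pointwise; so two colours
distinguish an affine group of odd order whose linear part has a base of two points. -/
theorem exists_affine_set (X : Type*) [CommGroup X] [Finite X] (hodd : Odd (Nat.card X))
    (Good : (X →* X) → Prop) (a₀ b₀ : X)
    (hbase : ∀ φ, Good φ → φ a₀ = a₀ → φ b₀ = b₀ → ∀ x, φ x = x) :
    ∃ c : X → Bool, ∀ (t : X) (φ : X →* X), Good φ → Function.Injective φ →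
      ∀ k, Odd k → (∀ x, (fun y => t * φ y)^[k] x = x) → (∀ x, c (t * φ x) = c x) →
        t = 1 ∧ ∀ x, φ x = x := by
  classical
  have hsq : ∀ x : X, x * x = 1 → x = 1 := fun x h => by
    have h1 : orderOf x ∣ 2 := orderOf_dvd_of_pow_eq_one (by rw [pow_two]; exact h)
    have h2 : Odd (orderOf x) := hodd.of_dvd_nat (orderOf_dvd_natCard x)
    rcases (Nat.dvd_prime Nat.prime_two).1 h1 with h' | h'
    · exact orderOf_eq_one_iff.1 h'
    · rw [h'] at h2; exact absurd h2 (by decide)
  by_cases hbig : ∃ a b : X, a ≠ 1 ∧ b ≠ 1 ∧ b ≠ a ∧ b ≠ a⁻¹ ∧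
      ∀ φ, Good φ → φ a = a → φ b = b → ∀ x, φ x = x
  · obtain ⟨a, b, ha, hb, hba, hbi, hab⟩ := hbig
    let f4 : Fin 4 → X := ![1, a, b, a * b]
    have hab1 : a * b ≠ 1 := fun h => hbi (eq_inv_of_mul_eq_one_right h)
    have h12 : ∀ i j, f4 i = f4 j → i = j := by
      intro i j h
      fin_cases i <;> fin_cases j <;>
        simp [f4, ha, hb, hba, hab1, Ne.symm ha, Ne.symm hb, Ne.symm hba, Ne.symm hab1] at h ⊢
    refine ⟨fun x => decide (x ∈ Set.range f4), fun t φ hgood hφ k hk hit hc => ?_⟩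
    have hstable : ∀ i, ∃ j, f4 j = t * φ (f4 i) := fun i => by
      have := hc (f4 i)
      simp only [decide_eq_decide] at this
      exact this.2 ⟨i, rfl⟩
    choose σ hσ using hstable
    have hσinj : Function.Injective σ := fun i j h => h12 _ _ (hφ (mul_left_cancel
      ((hσ i).symm.trans ((congrArg f4 h).trans (hσ j)))))
    have hrel : f4 (σ 0) * f4 (σ 3) = f4 (σ 1) * f4 (σ 2) := by
      rw [hσ, hσ, hσ, hσ]
      simp [f4, map_mul, mul_comm, mul_assoc, mul_left_comm]
    have hpat : (σ 0 = 0 ∧ σ 3 = 3) ∨ (σ 0 = 3 ∧ σ 3 = 0) ∨ (σ 0 = 1 ∧ σ 3 = 2) ∨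
        (σ 0 = 2 ∧ σ 3 = 1) := by
      have e1 : a ≠ b * (a * b) := fun h => hb (hsq b (mul_eq_left.1
        (show a * (b * b) = a by rw [mul_left_comm]; exact h.symm)))
      have e2 : b ≠ a * (a * b) := fun h => ha (hsq a (mul_eq_right.1
        (show a * a * b = b by rw [mul_assoc]; exact h.symm)))
      have q0 : f4 0 = 1 := rfl
      have q1 : f4 1 = a := rfl
      have q2 : f4 2 = b := rfl
      have q3 : f4 3 = a * b := rfl
      rcases partition_cases (σ 0) (σ 1) (σ 2) (σ 3) (hσinj.ne (by decide)) (hσinj.ne (by decide))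
        (hσinj.ne (by decide)) (hσinj.ne (by decide)) (hσinj.ne (by decide)) (hσinj.ne (by decide))
        with h | h | h | h | h
      · exact h
      all_goals
        exfalso
        obtain ⟨h1 | h1, h2 | h2⟩ := h <;>
          rw [h1.1, h1.2, h2.1, h2.2, q0, q1, q2, q3] at hrel <;> first
          | exact e1 (by simpa only [one_mul, mul_one, mul_comm (a * b) b] using hrel)
          | exact e1 (by simpa only [one_mul, mul_one, mul_comm (a * b) b] using hrel.symm)
          | exact e2 (by simpa only [one_mul, mul_one, mul_comm (a * b) a] using hrel)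
          | exact e2 (by simpa only [one_mul, mul_one, mul_comm (a * b) a] using hrel.symm)
    have h4 := four_perm σ hσinj hpat
    have hfix : ∀ i, t * φ (f4 i) = f4 i := by
      intro i
      have hp4 : Function.IsPeriodicPt (fun y => t * φ y) 4 (f4 i) := by
        change (fun y => t * φ y)^[4] (f4 i) = f4 i
        simp only [Function.iterate_succ, Function.iterate_zero, Function.id_comp,
          Function.comp_apply]
        rw [← hσ, ← hσ, ← hσ, ← hσ, h4]
      have hg := hp4.gcd (hit (f4 i) : Function.IsPeriodicPt (fun y => t * φ y) k (f4 i))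
      rwa [show Nat.gcd 4 k = 1 from Nat.Coprime.pow_left 2 (Nat.coprime_two_left.2 hk)] at hg
    have ht : t = 1 := by simpa [f4] using hfix 0
    refine ⟨ht, hab φ hgood ?_ ?_⟩
    · simpa [f4, ht] using hfix 1
    · simpa [f4, ht] using hfix 2
  · push Not at hbig
    -- only the group of order at most three remains
    refine ⟨fun x => decide (x = 1), fun t φ hgood hφ k hk hit hc => ?_⟩
    have ht : t = 1 := by simpa using hc 1
    refine ⟨ht, ?_⟩
    subst ht
    simp only [one_mul] at hit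
    rcases eq_or_ne a₀ 1 with ha | ha
    · rcases eq_or_ne b₀ 1 with hb | hb
      · exact hbase φ hgood (by rw [ha, map_one]) (by rw [hb, map_one])
      · have hall : ∀ x, x = 1 ∨ x = b₀ ∨ x = b₀⁻¹ := by
          intro x
          by_contra hx
          push Not at hx
          obtain ⟨ψ, hψ, e1, e2, y, hy⟩ := hbig b₀ x hb hx.1 hx.2.1 hx.2.2
          exact hy (hbase ψ hψ (by rw [ha, map_one]) e1 y)
        refine hbase φ hgood (by rw [ha, map_one]) (fix_of_sq_of_odd φ hk ?_ (hit _))
        rcases hall (φ b₀) with h | h | h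
        · exact absurd (hφ (h.trans (map_one φ).symm)) hb
        · rw [h, h]
        · rw [h, map_inv, h, inv_inv]
    · have hb : b₀ = 1 ∨ b₀ = a₀ ∨ b₀ = a₀⁻¹ := by
        by_contra hx
        push Not at hx
        obtain ⟨ψ, hψ, e1, e2, y, hy⟩ := hbig a₀ b₀ ha hx.1 hx.2.1 hx.2.2
        exact hy (hbase ψ hψ e1 e2 y)
      have hb' : ∀ ψ : X →* X, ψ a₀ = a₀ → ψ b₀ = b₀ := fun ψ h => by
        rcases hb with h' | h' | h' <;> simp [h', h]
      have hall : ∀ x, x = 1 ∨ x = a₀ ∨ x = a₀⁻¹ := by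
        intro x
        by_contra hx
        push Not at hx
        obtain ⟨ψ, hψ, e1, e2, y, hy⟩ := hbig a₀ x ha hx.1 hx.2.1 hx.2.2
        exact hy (hbase ψ hψ e1 (hb' ψ e1) y)
      have hfa : φ a₀ = a₀ := by
        refine fix_of_sq_of_odd φ hk ?_ (hit _)
        rcases hall (φ a₀) with h | h | h
        · exact absurd (hφ (h.trans (map_one φ).symm)) ha
        · rw [h, h]
        · rw [h, map_inv, h, inv_inv]
      exact hbase φ hgood hfa (hb' φ hfa)

end Cfsg.Agent.H10.BaseTwo
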