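import Mathlib
import Cfsg.Agent.H10.BaseThree.Primitive

/-!
# The set-up of a faithful irreducible action of a solvable group without blocks
-/

namespace Cfsg.Agent.H10.BaseTwo

open scoped commutatorElement
open Cfsg.Agent.H10.BaseThree

universe u v

/-- What is known about the symplectic type layer of an action without blocks. -/
structure Layer (G : Type u) (V : Type v) [Group G] [AddCommGroup V] [DistribMulAction G V]
    (T B L : Subgroup G) (ζ : G) (v : V) : Prop where
  frame : Frame T B L ζ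
  bnormal : B.Normal
  tne : T ≠ ⊥
  emb : ∃ (K : Type v) (_ : Field K) (f : T →* K), Function.Injective f
  vne : v ≠ 0
  vfix : ∀ l ∈ L, l • v = v
  fpf : ∀ t ∈ T, ∀ w : V, w ≠ 0 → t • w = w → t = 1
  stab : ∀ b ∈ B, b • v = v → b ∈ L
  self : ∀ g : G, (∀ t ∈ T, g * t = t * g) → (∀ b ∈ B, g * b = b * g) → g ∈ T
  uniq : ∀ (ι : Type u) [Fintype ι] (r : ι → B),
    (∀ a b, a ≠ b → ((r a)⁻¹ * r b : B) ∉ (cent B L).subgroupOf B) →
    ∀ u u' : ι → V, (∀ a, ∀ l ∈ L, l • u a = u a) → (∀ a, ∀ l ∈ L, l • u' a = u' a) →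
      ∑ a, (r a : G) • u a = ∑ a, (r a : G) • u' a → u = u'

theorem exists_layer_data {G : Type u} {V : Type v} [Group G] [AddCommGroup V]
    [DistribMulAction G V] [Finite G] [Finite V] [Group.IsSolvable G] [Nontrivial G]
    (hirr : Irred G V) (hfaith : ∀ g : G, (∀ v : V, g • v = v) → g = 1)
    (hnb : ∀ e : AddMonoid.End V, ¬ IsBlock G e) :
    ∃ (T B L : Subgroup G) (ζ : G) (v : V), Layer G V T B L ζ v := by
  classical
  have := hirr.1
  -- maximal abelian normal subgroup
  obtain ⟨A0, -, hA0n, hA01, hA0c⟩ :=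
    exists_abelian_normal_le (G := G) (D := ⊤) (fun h => top_ne_bot h)
  let Fam : Set (Subgroup G) := {A | A.Normal ∧ ∀ a ∈ A, ∀ b ∈ A, a * b = b * a}
  obtain ⟨T, hA0T, ⟨⟨hTn, hTc⟩, hTmax⟩⟩ :=
    (Set.toFinite Fam).exists_le_maximal (show A0 ∈ Fam from ⟨hA0n, hA0c⟩)
  haveI := hTn
  have hT1 : T ≠ ⊥ := fun h => hA01 (le_bot_iff.1 (h ▸ hA0T))
  obtain ⟨p, hp, hpV⟩ := exists_prime_exponent hirr
  haveI := Fact.mk hp
  -- the scalars form a finite integral domain
  let K := scalars V T
  letI : CommRing K :=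
    { (inferInstance : Ring K) with
      mul_comm := fun x y => Subtype.ext (scalars_comm hTc x.2 y.2) }
  haveI : Nontrivial K := ⟨⟨0, 1, fun h => by
    obtain ⟨v, hv⟩ := exists_ne (0 : V)
    exact hv (DFunLike.congr_fun (congrArg Subtype.val h) v).symm⟩⟩
  haveI : NoZeroDivisors K := ⟨fun {x y} h => by
    by_contra hc
    push Not at hc
    refine hc.2 (Subtype.ext (AddMonoidHom.ext fun u => ?_))
    exact scalars_injective hirr hnb hTc x.2 (fun h0 => hc.1 (Subtype.ext h0))
      (DFunLike.congr_fun (congrArg Subtype.val h) u)⟩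
  haveI : IsDomain K := NoZeroDivisors.to_isDomain K
  haveI : CharP K p := by
    refine (CharP.charP_iff_prime_eq_zero hp).2 (Subtype.ext (AddMonoidHom.ext fun v => ?_))
    change ((p : K) : AddMonoid.End V) v = 0
    rw [show ((p : K) : AddMonoid.End V) = (p : AddMonoid.End V) from map_natCast K.subtype p,
      AddMonoid.End.natCast_apply, hpV]
  have hfix : ∀ t ∈ T, ∀ v : V, v ≠ 0 → t • v = v → t = 1 := by
    intro t ht v hv htv
    refine hfaith t fun u => ?_
    by_contra hu
    have hx0 : ((toScalar V T ⟨t, ht⟩ - 1 : K) : AddMonoid.End V) ≠ 0 := fun h => hu (by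
      have h' : t • u - u = 0 := DFunLike.congr_fun h u
      exact sub_eq_zero.1 h')
    refine hv (scalars_injective hirr hnb hTc (toScalar V T ⟨t, ht⟩ - 1 : K).2 hx0 ?_)
    change t • v - v = 0
    rw [htv, sub_self]
  let f : T →* K := toScalar V T
  have hf : Function.Injective f := (injective_iff_map_eq_one f).2 fun t ht => Subtype.ext <|
    hfaith t fun u => DFunLike.congr_fun (congrArg Subtype.val ht) u
  haveI : IsCyclic T := isCyclic_of_injective_ringHom f hf
  obtain ⟨ζ', hζ'⟩ := IsCyclic.exists_generator (α := T)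
  let ζ : G := ζ'
  have hTgen : T = Subgroup.zpowers ζ := by
    apply le_antisymm
    · intro t ht
      obtain ⟨k, hk⟩ := Subgroup.mem_zpowers_iff.1 (hζ' ⟨t, ht⟩)
      exact Subgroup.mem_zpowers_iff.2 ⟨k, congrArg Subtype.val hk⟩
    · exact Subgroup.zpowers_le.2 ζ'.2
  obtain ⟨B, hBn, hTB, hcentral, hBcomm, hcentre, hexpo, hCB⟩ := exists_layer hTc
    (fun A hA hTA hAc => hTmax ⟨hA, hAc⟩ hTA)
  -- the maximal abelian subgroup avoiding `T`
  let LF : Set (Subgroup G) := {L | L ≤ B ∧ (∀ a ∈ L, ∀ b ∈ L, a * b = b * a) ∧ L ⊓ T = ⊥}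
  obtain ⟨L, -, ⟨⟨hLB, hLc, hLT⟩, hLmax⟩⟩ := (Set.toFinite LF).exists_le_maximal
    (show (⊥ : Subgroup G) ∈ LF from ⟨bot_le,
      fun a ha b hb => by rw [Subgroup.mem_bot.1 ha, Subgroup.mem_bot.1 hb], bot_inf_eq T⟩)
  have F : Frame T B L ζ := ⟨hTn, hTB, hTgen, hcentral, hBcomm, hcentre, hexpo, hLB, hLc, hLT,
    fun L' h1 h2 h3 h4 => hLmax ⟨h2, h3, h4⟩ h1⟩
  haveI := F.cent_normal
  let N := (cent B L).subgroupOf B
  letI : CommGroup (B ⧸ N) :=
    { (inferInstance : Group (B ⧸ N)) with
      mul_comm := fun x y => by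
        induction x using QuotientGroup.induction_on with
        | _ a =>
          induction y using QuotientGroup.induction_on with
          | _ b =>
            refine commutatorElement_eq_one_iff_mul_comm.1
              ((map_commutatorElement (QuotientGroup.mk' N) a b).symm.trans
                ((QuotientGroup.eq_one_iff _).2 ?_))
            exact F.tle_cent (F.comm (a : G) a.2 (b : G) b.2) }
  letI := Fintype.ofFinite (B ⧸ N)
  letI := Fintype.ofFinite L
  let rep : B ⧸ N → B := fun q => if q = 1 then 1 else q.out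
  have hrep : ∀ q, (rep q : B ⧸ N) = q := fun q => by
    by_cases h : q = 1
    · simp [rep, h]
    · simp [rep, h]
  have hrep1 : rep 1 = 1 := if_pos rfl
  -- sums of nontrivial characters vanish
  have horth : ∀ {A : Type _} [Group A] [Fintype A] (h : A →* K), (∃ a, h a ≠ 1) → ∀ u : V,
      ∑ a, (h a : AddMonoid.End V) u = 0 := by
    intro A _ _ h hne u
    have h0 : (∑ a, h a) = 0 := sum_hom_units_eq_zero h (fun hh => by
      obtain ⟨a, ha⟩ := hne
      exact ha (by rw [hh, MonoidHom.one_apply]))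
    have h1 : (∑ a, (h a : AddMonoid.End V)) = 0 := by
      rw [← AddSubmonoidClass.coe_finsetSum, h0]; rfl
    have h2 := DFunLike.congr_fun h1 u
    exact (AddMonoidHom.finsetSum_apply (fun a => ((h a : AddMonoid.End V) : V →+ V)) _ u).symm.trans h2
  have hTp : ∀ t ∈ T, t ^ p = 1 → t = 1 := by
    intro t ht h
    have h1 : (f ⟨t, ht⟩) ^ p = 1 := by
      rw [← map_pow, show (⟨t, ht⟩ : T) ^ p = 1 from Subtype.ext h, map_one]
    have h2 : (f ⟨t, ht⟩ - 1) ^ p = 0 := by rw [sub_pow_char, one_pow, h1, sub_self]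
    have h3 : f ⟨t, ht⟩ = f 1 := by
      rw [map_one]; exact sub_eq_zero.1 ((pow_eq_zero_iff hp.ne_zero).1 h2)
    exact congrArg Subtype.val (hf h3)
  have hpX : ¬ p ∣ Nat.card (B ⧸ N) := fun hd => by
    obtain ⟨x, hx⟩ := exists_prime_orderOf_dvd_card' p hd
    have hxp : ((rep x ^ p : B) : B ⧸ N) = 1 := by
      rw [QuotientGroup.mk_pow, hrep, ← hx, pow_orderOf_eq_one]
    have hx1 : (rep x : B ⧸ N) = 1 := (QuotientGroup.eq_one_iff _).2 <| by
      refine mem_cent.2 ⟨SetLike.coe_mem _, fun l hl => ?_⟩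
      refine commutatorElement_eq_one_iff_mul_comm.1 (hTp _ (F.comm l (hLB hl) _ (rep x).2) ?_)
      refine (F.comm_pow_right (hLB hl) (rep x).2 p).symm.trans ?_
      have := (QuotientGroup.eq_one_iff _).1 hxp
      exact commutatorElement_eq_one_iff_mul_comm.2 ((mem_cent.1 this).2 l hl)
    rw [hrep] at hx1
    rw [hx1, orderOf_one] at hx
    exact hp.ne_one hx.symm
  have hpL : ¬ p ∣ Nat.card L := fun hd => by
    obtain ⟨x, hx⟩ := exists_prime_orderOf_dvd_card' p hd
    have hxT : (x : G) ∈ L ⊓ T := ⟨x.2, hcentre _ (hLB x.2) fun b hb => by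
      refine commutatorElement_eq_one_iff_mul_comm.1 (hTp _ (F.comm _ (hLB x.2) b hb) ?_)
      rw [← F.comm_pow_left (hLB x.2) hb, ← Subgroup.coe_pow, ← hx, pow_orderOf_eq_one]
      exact commutatorElement_one_left b⟩
    rw [hLT, Subgroup.mem_bot] at hxT
    rw [show x = 1 from Subtype.ext hxT, orderOf_one] at hx
    exact hp.ne_one hx.symm
  have hcancel : ∀ (n : ℕ), ¬ p ∣ n → ∀ u : V, n • u = 0 → u = 0 := fun n hn u hu => by
    by_contra hne
    have h1 : addOrderOf u = p := addOrderOf_eq_prime (hpV u) hne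
    exact hn (h1 ▸ addOrderOf_dvd_of_nsmul_eq_zero hu)
  -- a vector fixed by `L`
  obtain ⟨v, hv0, hvL⟩ : ∃ v : V, v ≠ 0 ∧ ∀ l ∈ L, l • v = v := by
    by_contra hc
    push Not at hc
    obtain ⟨u, hu⟩ := exists_ne (0 : V)
    refine hu (hcancel _ hpX u ?_)
    have hP : ∀ w : V, ∑ l : L, (l : G) • w = 0 := by
      intro w
      by_contra hne
      obtain ⟨l, hl, hlw⟩ := hc _ hne
      apply hlw
      rw [Finset.smul_sum]
      exact Fintype.sum_equiv (Equiv.mulLeft ⟨l, hl⟩) _ _ fun k => (mul_smul _ _ _).symm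
    have hexp : ∀ q : B ⧸ N, ∀ l : L, (rep q : G) • (l : G) • ((rep q : G)⁻¹ • u) =
        ⁅(rep q : G), (l : G)⁆ • (l : G) • u := fun q l => by
      simp only [smul_smul, commutatorElement_def]
      congr 1; group
    have h0 : ∑ l : L, ∑ q : B ⧸ N, ⁅(rep q : G), (l : G)⁆ • (l : G) • u = 0 := by
      rw [Finset.sum_comm]
      refine Finset.sum_eq_zero fun q _ => ?_
      simp only [← hexp, ← Finset.smul_sum, hP, smul_zero]
    rw [Fintype.sum_eq_single 1] at h0
    · simpa [Nat.card_eq_fintype_card] using h0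
    · intro l hl
      let ψ : B →* T :=
        { toFun := fun b => ⟨⁅(b : G), (l : G)⁆, F.comm (b : G) b.2 (l : G) (hLB l.2)⟩
          map_one' := Subtype.ext (commutatorElement_one_left (l : G))
          map_mul' := fun a b => Subtype.ext (F.comm_mul_left a.2 b.2 (hLB l.2)) }
      have hker : N ≤ (f.comp ψ).ker := fun b hb => by
        rw [MonoidHom.mem_ker, MonoidHom.comp_apply, show ψ b = 1 from Subtype.ext
          (commutatorElement_eq_one_iff_mul_comm.2 ((mem_cent.1 hb).2 l l.2).symm), map_one]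
      have hne : ∃ q, QuotientGroup.lift N (f.comp ψ) hker q ≠ 1 := by
        by_contra hall
        push Not at hall
        refine hl (Subtype.ext (Subgroup.mem_bot.1 (hLT ▸ ⟨l.2, hcentre _ (hLB l.2) fun b hb => ?_⟩ :
          (l : G) ∈ (⊥ : Subgroup G))))
        have h1 : ψ ⟨b, hb⟩ = 1 := hf ((hall (QuotientGroup.mk' N ⟨b, hb⟩)).trans (map_one f).symm)
        exact (commutatorElement_eq_one_iff_mul_comm.1 (congrArg Subtype.val h1)).symm
      have := horth (QuotientGroup.lift N (f.comp ψ) hker) hne ((l : G) • u)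
      rw [← this]
      refine Finset.sum_congr rfl fun q _ => ?_
      conv_rhs => rw [← hrep q, QuotientGroup.lift_mk]
      rfl
  have hstab : ∀ b ∈ B, b • v = v → b ∈ L := by
    intro b hb hbv
    let S := B ⊓ MulAction.stabilizer G v
    refine hLmax (y := S) ⟨inf_le_left, ?_, ?_⟩ (fun l hl => ⟨hLB hl, hvL l hl⟩) ⟨hb, hbv⟩
    · intro a ha c hc
      refine commutatorElement_eq_one_iff_mul_comm.1 (hfix _ (F.comm a ha.1 c hc.1) v hv0 ?_)
      have : ⁅a, c⁆ ∈ MulAction.stabilizer G v := by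
        rw [commutatorElement_def]
        exact mul_mem (mul_mem (mul_mem ha.2 hc.2) (inv_mem ha.2)) (inv_mem hc.2)
      exact this
    · rw [eq_bot_iff]
      exact fun t ht => Subgroup.mem_bot.2 (hfix t ht.2 v hv0 ht.1.2)
  -- uniqueness of the components
  have huniq : ∀ {ι : Type _} [Fintype ι] (r : ι → B), (∀ a b, a ≠ b → ((r a)⁻¹ * r b : B) ∉ N) →
      ∀ u u' : ι → V, (∀ q, ∀ l ∈ L, l • u q = u q) → (∀ q, ∀ l ∈ L, l • u' q = u' q) →
      ∑ q, (r q : G) • u q = ∑ q, (r q : G) • u' q → u = u' := by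
    intro ι _ r hr u u' hu hu' he
    funext q₀
    have hd : ∑ q, (r q : G) • (u q - u' q) = 0 := by
      simp only [smul_sub, Finset.sum_sub_distrib, he, sub_self]
    have key : ∀ q (l : L), (l : G) • (r q : G) • (u q - u' q) =
        ⁅(l : G), (r q : G)⁆ • (r q : G) • (u q - u' q) := fun q l => by
      have hfixl : (l : G) • (u q - u' q) = u q - u' q := by
        rw [smul_sub, hu q l l.2, hu' q l l.2]
      calc (l : G) • (r q : G) • (u q - u' q)
          = ⁅(l : G), (r q : G)⁆ • (r q : G) • (l : G) • (u q - u' q) := by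
            simp only [smul_smul, commutatorElement_def]; congr 1; group
        _ = _ := by rw [hfixl]
    have h0 : ∑ q, ∑ l : L, (⁅(l : G), (r q₀ : G)⁆⁻¹ * ⁅(l : G), (r q : G)⁆) •
        (r q : G) • (u q - u' q) = 0 := by
      rw [Finset.sum_comm]
      refine Finset.sum_eq_zero fun l _ => ?_
      simp only [mul_smul, ← key, ← Finset.smul_sum, hd, smul_zero]
    rw [Fintype.sum_eq_single q₀] at h0
    · simp only [inv_mul_cancel, one_smul, Finset.sum_const, Finset.card_univ,
        ← Nat.card_eq_fintype_card] at h0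
      exact sub_eq_zero.1 ((smul_eq_zero_iff_eq _).1 (hcancel _ hpL _ h0))
    · intro q hq
      let h : L →* T :=
        { toFun := fun l => (F.kappa l (hLB l.2) (r q₀))⁻¹ * F.kappa l (hLB l.2) (r q)
          map_one' := Subtype.ext (by simp [Frame.kappa])
          map_mul' := fun l l' => by
            letI : CommGroup T :=
              { (inferInstance : Group T) with
                mul_comm := fun a b => Subtype.ext (hTc a a.2 b b.2) }
            have e : ∀ b : B, F.kappa ((l * l' : L) : G) (hLB (l * l').2) b =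
                F.kappa l (hLB l.2) b * F.kappa l' (hLB l'.2) b := fun b =>
              Subtype.ext (F.comm_mul_left (hLB l.2) (hLB l'.2) b.2)
            rw [e, e, mul_inv, mul_mul_mul_comm] }
      have hne : ∃ l, (f.comp h) l ≠ 1 := by
        by_contra hall
        push Not at hall
        refine hr q₀ q (Ne.symm hq) ?_
        rw [Subgroup.mem_subgroupOf]
        refine mem_cent.2 ⟨SetLike.coe_mem _, fun l hl => commutatorElement_eq_one_iff_mul_comm.1 ?_⟩
        have h1 : h ⟨l, hl⟩ = 1 := hf ((hall ⟨l, hl⟩).trans (map_one f).symm)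
        have h2 : F.kappa l (hLB hl) ((r q₀)⁻¹ * r q) = 1 := by
          rw [map_mul, map_inv]; exact h1
        exact congrArg Subtype.val h2
      exact (horth (f.comp h) hne ((r q : G) • (u q - u' q)))
  letI : Fintype K := Fintype.ofFinite K
  refine ⟨T, B, L, ζ, v, F, hBn, hT1, ⟨K, Fintype.fieldOfDomain K, f, hf⟩, hv0, hvL, hfix, hstab,
    hCB, ?_⟩
  intro ι _ r hr u u' hu hu' he
  exact huniq r hr u u' hu hu' he

end Cfsg.Agent.H10.BaseTwo
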