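import Mathlib
import Cfsg.Agent.H10.BaseTwo.OddColour
import Cfsg.Agent.H10.BaseTwo.Setup

/-!
# A regular pair for groups of odd order without blocks
-/

namespace Cfsg.Agent.H10.BaseTwo

open scoped commutatorElement
open Cfsg.Agent.H10.BaseThree

universe u v

/-- A pair of vectors whose common stabiliser acts trivially. -/
def Regular2 (G : Type*) {V : Type*} [Group G] [AddCommGroup V] [DistribMulAction G V]
    (t : V × V) : Prop :=
  ∀ g : G, g • t.1 = t.1 → g • t.2 = t.2 → ∀ w : V, g • w = w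

theorem regular2_of_no_block {G : Type u} {V : Type v} [Group G] [AddCommGroup V]
    [DistribMulAction G V] [Finite G] [Finite V] [Group.IsSolvable G] (hodd : Odd (Nat.card G))
    (hirr : Irred G V) (hfaith : ∀ g : G, (∀ v : V, g • v = v) → g = 1)
    (hnb : ∀ e : AddMonoid.End V, ¬ IsBlock G e) : ∃ t : V × V, Regular2 G t := by
  classical
  rcases subsingleton_or_nontrivial G with hsub | hnt
  · exact ⟨(0, 0), fun g _ _ w => by rw [Subsingleton.elim g 1, one_smul]⟩
  obtain ⟨T, B, L, ζ, v, hLay⟩ := exists_layer_data hirr hfaith hnb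
  have F := hLay.frame
  obtain ⟨K, hK, f, hf⟩ := hLay.emb
  letI := hK
  have hBn := hLay.bnormal
  have hTn := F.tnormal
  have hCLT : cent B L ≤ L ⊔ T := by
    intro x hx
    obtain ⟨k, hk⟩ := hodd.of_dvd_nat (orderOf_dvd_natCard x)
    have h : (x ^ 2) ^ (k + 1) = x := by
      rw [← pow_mul, show 2 * (k + 1) = orderOf x + 1 by omega, pow_succ, pow_orderOf_eq_one,
        one_mul]
    rw [← h]
    exact pow_mem (F.sq_mem_sup f hf hx) _
  haveI := F.cent_normal
  let N := (cent B L).subgroupOf B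
  letI : CommGroup (B ⧸ N) :=
    { (inferInstance : Group (B ⧸ N)) with
      mul_comm := fun x y => by
        induction x using QuotientGroup.induction_on with
        | _ a =>
          induction y using QuotientGroup.induction_on with
          | _ b =>
            refine commutatorElement_eq_one_iff_mul_comm.1
              ((map_commutatorElement (QuotientGroup.mk' N) a b).symm.trans
                ((QuotientGroup.eq_one_iff _).2 ?_))
            exact F.tle_cent (F.comm (a : G) a.2 (b : G) b.2) }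
  letI := Fintype.ofFinite (B ⧸ N)
  have hXodd : Odd (Nat.card (B ⧸ N)) :=
    hodd.of_dvd_nat ((Subgroup.card_quotient_dvd_card N).trans (Subgroup.card_subgroup_dvd_card B))
  obtain ⟨m, b, D, hbD, hIcc, hgen, hD1, hasym⟩ := exists_root_set (B ⧸ N) hXodd
  let rep : B ⧸ N → B := fun q => if q = 1 then 1 else q.out
  have hrep : ∀ q, (rep q : B ⧸ N) = q := fun q => by
    by_cases h : q = 1
    · simp [rep, h]
    · simp [rep, h]
  have hrep1 : rep 1 = 1 := if_pos rfl
  have hrepinj : ∀ p q, p ≠ q → ((rep p)⁻¹ * rep q : B) ∉ N := fun p q hne hmem => hne (by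
    rw [← hrep p, ← hrep q]; exact QuotientGroup.eq.2 hmem)
  let γ : B ⧸ N → V := fun q => if q = 1 then ζ • v else if q ∈ D then v else 0
  refine ⟨(v, ∑ q, (rep q : G) • γ q), fun g hg1 hg2 => ?_⟩
  have hinvfix : ∀ k : G, k • v = v → k⁻¹ • v = v := fun k hk => by
    rw [inv_smul_eq_iff]; exact hk.symm
  have hnormL : ∀ k : G, k • v = v → ∀ l ∈ L, k * l * k⁻¹ ∈ L := fun k hk l hl =>
    hLay.stab _ (hBn.conj_mem l (F.lle hl) k) (by
      rw [mul_smul, mul_smul, hinvfix k hk, hLay.vfix l hl, hk])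
  have hgfix : ∀ w : V, (∀ l ∈ L, l • w = w) → ∀ l ∈ L, l • g • w = g • w := fun w hw l hl => by
    have h := hw _ (hnormL g⁻¹ (hinvfix g hg1) l hl)
    rw [inv_inv, mul_smul, mul_smul, inv_smul_eq_iff] at h
    exact h
  have hζC : ζ ∈ cent B L := F.tle_cent F.zeta_mem
  have hγL : ∀ q, ∀ l ∈ L, l • γ q = γ q := fun q l hl => by
    simp only [γ]; split_ifs
    · rw [smul_smul, (mem_cent.1 hζC).2 l hl, mul_smul, hLay.vfix l hl]
    · exact hLay.vfix l hl
    · exact smul_zero l
  have hcentconj : ∀ k : G, k • v = v → ∀ c ∈ cent B L, k * c * k⁻¹ ∈ cent B L := by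
    intro k hk c hc
    refine mem_cent.2 ⟨hBn.conj_mem c (mem_cent.1 hc).1 k, fun l hl => ?_⟩
    have h := (mem_cent.1 hc).2 _ (hnormL k⁻¹ (hinvfix k hk) l hl)
    rw [inv_inv] at h
    calc l * (k * c * k⁻¹) = k * (k⁻¹ * l * k * c) * k⁻¹ := by group
      _ = k * (c * (k⁻¹ * l * k)) * k⁻¹ := by rw [h]
      _ = k * c * k⁻¹ * l := by group
  let φ : B ⧸ N →* B ⧸ N := QuotientGroup.map N N ((MulAut.conjNormal g : B ≃* B) : B →* B)
    (fun c hc => by
      rw [Subgroup.mem_comap, Subgroup.mem_subgroupOf]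
      exact hcentconj g hg1 _ hc)
  have hφmk : ∀ y : B, φ (y : B ⧸ N) = ((MulAut.conjNormal g y : B) : B ⧸ N) := fun y => rfl
  have hφinj : Function.Injective φ := by
    rw [injective_iff_map_eq_one]
    intro x hx
    induction x using QuotientGroup.induction_on with
    | _ y =>
      rw [hφmk, QuotientGroup.eq_one_iff, Subgroup.mem_subgroupOf, MulAut.conjNormal_apply] at hx
      rw [QuotientGroup.eq_one_iff, Subgroup.mem_subgroupOf]
      have := hcentconj g⁻¹ (hinvfix g hg1) _ hx
      group at this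
      exact this
  let φe : (B ⧸ N) ≃ (B ⧸ N) := Equiv.ofBijective φ (Finite.injective_iff_bijective.1 hφinj)
  let c : B ⧸ N → G := fun q => (rep (φ q) : G)⁻¹ * (g * (rep q : G) * g⁻¹)
  have hc : ∀ q, c q ∈ cent B L := fun q => by
    have h : ((MulAut.conjNormal g (rep q) : B) : B ⧸ N) = φ q := by rw [← hφmk, hrep]
    have h2 := QuotientGroup.eq.1 ((hrep (φ q)).trans h.symm)
    rw [Subgroup.mem_subgroupOf] at h2
    simpa [c, MulAut.conjNormal_apply] using h2
  have hmove : ∀ q, c q • g • γ q = γ (φ q) := by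
    intro q
    have hu : ∀ q', ∀ l ∈ L, l • (c (φe.symm q') • g • γ (φe.symm q')) =
        c (φe.symm q') • g • γ (φe.symm q') := fun q' l hl => by
      rw [smul_smul, (mem_cent.1 (hc _)).2 l hl, mul_smul, hgfix _ (hγL _) l hl]
    have hsum : ∑ q', (rep q' : G) • (c (φe.symm q') • g • γ (φe.symm q')) =
        ∑ q, (rep q : G) • γ q := by
      rw [← Fintype.sum_equiv φe (fun x => g • (rep x : G) • γ x) _ fun x => ?_, ← Finset.smul_sum]
      · exact hg2
      rw [Equiv.symm_apply_apply]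
      change g • (rep x : G) • γ x = (rep (φ x) : G) • c x • g • γ x
      simp only [c, smul_smul]
      congr 1; group
    have := congrFun (hLay.uniq _ rep hrepinj _ _ hu hγL hsum) (φe q)
    rw [Equiv.symm_apply_apply] at this
    exact this
  have hc1 : c 1 = 1 := by simp [c, hrep1]
  have hgT : ∀ t ∈ T, g * t = t * g := by
    have h := hmove 1
    rw [hc1, one_smul, map_one] at h
    have h' : g • ζ • v = ζ • v := by simpa [γ] using h
    have h1 : ζ⁻¹ * (g * ζ * g⁻¹) = 1 := by
      refine hLay.fpf _ (T.mul_mem (T.inv_mem F.zeta_mem) (hTn.conj_mem ζ F.zeta_mem g)) v hLay.vne ?_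
      rw [mul_smul, mul_smul, mul_smul, hinvfix g hg1, h', inv_smul_smul]
    have hcomm : Commute g ζ := mul_inv_eq_iff_eq_mul.1 (inv_mul_eq_one.1 h1).symm
    intro t ht
    rw [F.tgen] at ht
    obtain ⟨k, rfl⟩ := Subgroup.mem_zpowers_iff.1 ht
    exact hcomm.zpow_right k
  have hDfix : ∀ q ∈ D, φ q ∈ D ∧ c q • v = v := by
    intro q hq
    have hq1 : q ≠ 1 := fun h => hD1 (h ▸ hq)
    have hφ1 : φ q ≠ 1 := fun h => hq1 (hφinj (h.trans (map_one φ).symm))
    have h := hmove q
    simp only [γ, if_neg hq1, if_neg hφ1, if_pos hq, hg1] at h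
    split_ifs at h with hq'
    · exact ⟨hq', h⟩
    · exact absurd ((smul_eq_zero_iff_eq _).1 h) hLay.vne
  have hiter : ∀ (n : ℕ) (y : B), φ^[n] (y : B ⧸ N) = ((MulAut.conjNormal (g ^ n) y : B) : B ⧸ N) := by
    intro n
    induction n with
    | zero => intro y; simp
    | succ n ih =>
      intro y
      rw [Function.iterate_succ', Function.comp_apply, ih, hφmk, pow_succ', map_mul]
      rfl
  have hφid : ∀ q, φ q = q := by
    refine hasym φ hφinj (orderOf g) (hodd.of_dvd_nat (orderOf_dvd_natCard g)) (fun x => ?_)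
      (fun x hx => (hDfix x hx).1)
    induction x using QuotientGroup.induction_on with
    | _ y => rw [hiter, pow_orderOf_eq_one, map_one]; rfl
  -- displacement
  have hlam : ∀ y : B, ((y : B ⧸ N) ∈ D ∨ (y : B ⧸ N) = 1) →
      (y : G)⁻¹ * (g * (y : G) * g⁻¹) ∈ L := by
    intro y hy
    refine hLay.stab _ (mul_mem (inv_mem y.2) (hBn.conj_mem _ y.2 g)) ?_
    set q : B ⧸ N := (y : B ⧸ N)
    have hr : (rep q : G)⁻¹ * (y : G) ∈ L ⊔ T := by
      have := QuotientGroup.eq.1 (hrep q : (rep q : B ⧸ N) = (y : B ⧸ N))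
      rw [Subgroup.mem_subgroupOf] at this
      exact hCLT this
    obtain ⟨l, hl, t, ht, hlt⟩ := F.mem_sup_iff.1 hr
    have hyv : (y : G) • v = t • (rep q : G) • v := by
      rw [show (y : G) = (rep q : G) * (l * t) by rw [hlt]; group,
        ← F.central t ht l (F.lle hl), mul_smul, mul_smul, hLay.vfix l hl, smul_smul, smul_smul,
        F.central t ht _ (rep q).2]
    have hrv : g • (rep q : G) • v = (rep q : G) • v := by
      rcases hy with hy | hy
      · have h1 : g * (rep q : G) * g⁻¹ = (rep q : G) * c q := by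
          simp only [c, hφid q]; group
        calc g • (rep q : G) • v = (g * (rep q : G) * g⁻¹) • v := by
              rw [mul_smul, mul_smul, hinvfix g hg1]
          _ = (rep q : G) • v := by rw [h1, mul_smul, (hDfix q hy).2]
      · simp only [q, hy, hrep1, Subgroup.coe_one, one_smul, hg1]
    rw [mul_smul, mul_smul, mul_smul, hinvfix g hg1, hyv, smul_smul g t, hgT t ht, mul_smul, hrv,
      inv_smul_eq_iff, hyv]
  -- commutation from three displacements in `L`
  have hkey : ∀ x y : B, (x : G)⁻¹ * (g * (x : G) * g⁻¹) ∈ L → (y : G)⁻¹ * (g * (y : G) * g⁻¹) ∈ L →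
      ((x * y : B) : G)⁻¹ * (g * ((x * y : B) : G) * g⁻¹) ∈ L →
      ⁅(x : G)⁻¹ * (g * (x : G) * g⁻¹), (y : G)⁆ = 1 := by
    intro x y hx hy hxy
    set l := (x : G)⁻¹ * (g * (x : G) * g⁻¹) with hldef
    have h1 : (y : G)⁻¹ * l * (y : G) ∈ L := by
      have h := L.mul_mem hxy (L.inv_mem hy)
      rw [show ((x * y : B) : G)⁻¹ * (g * ((x * y : B) : G) * g⁻¹) *
        ((y : G)⁻¹ * (g * (y : G) * g⁻¹))⁻¹ = (y : G)⁻¹ * l * (y : G) by
          rw [hldef, Subgroup.coe_mul]; group] at h
      exact h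
    have h2 : ⁅(y : G)⁻¹, l⁆ ∈ L ⊓ T := by
      refine ⟨?_, F.comm _ (inv_mem y.2) l (F.lle hx)⟩
      rw [commutatorElement_def, inv_inv]
      exact L.mul_mem h1 (L.inv_mem hx)
    rw [F.linf, Subgroup.mem_bot] at h2
    have h3 := commutatorElement_eq_one_iff_mul_comm.1 h2
    refine commutatorElement_eq_one_iff_mul_comm.2 ?_
    calc l * (y : G) = (y : G) * ((y : G)⁻¹ * l) * (y : G) := by group
      _ = (y : G) * (l * (y : G)⁻¹) * (y : G) := by rw [h3]
      _ = (y : G) * l := by group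
  let β : Fin m → B := fun i => rep (b i)
  let lam : Fin m → G := fun i => (β i : G)⁻¹ * (g * (β i : G) * g⁻¹)
  have hlamL : ∀ i, lam i ∈ L := fun i => hlam _ (Or.inl (by simp only [β, hrep]; exact (hbD i).1))
  have hS : ∀ (l : G) (hl : l ∈ L) (q : B ⧸ N),
      q ∈ ((F.kappa l (F.lle hl)).ker.map (QuotientGroup.mk' N)) →
      ∀ y : B, (y : B ⧸ N) = q → ⁅l, (y : G)⁆ = 1 := by
    rintro l hl _ ⟨z, hz, rfl⟩ y hy
    have hz' : ⁅l, (z : G)⁆ = 1 := congrArg Subtype.val hz
    have hd := QuotientGroup.eq.1 hy.symm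
    rw [Subgroup.mem_subgroupOf] at hd
    have : ⁅l, (z : G) * ((z⁻¹ * y : B) : G)⁆ = 1 := by
      rw [F.comm_mul_right (F.lle hl) z.2 (mem_cent.1 hd).1, hz', one_mul]
      exact commutatorElement_eq_one_iff_mul_comm.2 ((mem_cent.1 hd).2 l hl)
    simpa using this
  let Sg : Fin m → Subgroup (B ⧸ N) := fun i =>
    (F.kappa (lam i) (F.lle (hlamL i))).ker.map (QuotientGroup.mk' N)
  have hIn : ∀ i, ∀ y : B, ((y : B ⧸ N) ∈ D) → ((β i : B ⧸ N) * (y : B ⧸ N) ∈ D ∨
      (β i : B ⧸ N) * (y : B ⧸ N) = 1) → (y : B ⧸ N) ∈ Sg i := fun i y hy hprod =>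
    ⟨y, Subtype.ext (hkey (β i) y (hlamL i) (hlam y (Or.inl hy))
      (hlam (β i * y) (by rw [QuotientGroup.mk_mul]; exact hprod))), rfl⟩
  have hup : ∀ i j, i ≤ j → b j ∈ Sg i := by
    intro i
    have hprodmem : ∀ j, i < j → ∏ k ∈ Finset.Ioc i j, b k ∈ Sg i := by
      intro j hij
      let i' : Fin m := ⟨(i : ℕ) + 1, by omega⟩
      have hI : Finset.Ioc i j = Finset.Icc i' j := by
        ext x
        simp only [Finset.mem_Ioc, Finset.mem_Icc, Fin.lt_def, Fin.le_def, i']
        omega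
      have := hIn i (rep (∏ k ∈ Finset.Ioc i j, b k)) (by
        rw [hrep, hI]; exact hIcc i' j (Fin.le_def.2 (by simp only [i', Fin.val_mk]; omega))) (by
        refine Or.inl ?_
        simp only [β, hrep]
        rw [Finset.mul_prod_Ioc_eq_prod_Icc hij.le]
        exact hIcc i j hij.le)
      rwa [hrep] at this
    intro j hij
    rcases hij.eq_or_lt with rfl | hlt
    · have := hIn i (rep (b i)⁻¹) (by rw [hrep]; exact (hbD i).2)
        (Or.inr (by simp only [β, hrep, mul_inv_cancel]))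
      rw [hrep] at this
      simpa using (Sg i).inv_mem this
    · by_cases h1 : (j : ℕ) = i + 1
      · have hI : Finset.Ioc i j = {j} := by
          ext x
          simp only [Finset.mem_Ioc, Finset.mem_singleton, Fin.lt_def, Fin.le_def, Fin.ext_iff]
          omega
        have := hprodmem j hlt
        rwa [hI, Finset.prod_singleton] at this
      · let j' : Fin m := ⟨(j : ℕ) - 1, by omega⟩
        have hlt' : i < j' := Fin.lt_def.2 (by simp only [j', Fin.val_mk]; omega)
        have hI : Finset.Ioc i j = insert j (Finset.Ioc i j') := by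
          ext x
          simp only [Finset.mem_Ioc, Finset.mem_insert, Fin.lt_def, Fin.le_def, Fin.ext_iff, j']
          omega
        have hj : j ∉ Finset.Ioc i j' := by
          simp only [Finset.mem_Ioc, Fin.lt_def, Fin.le_def, j']
          omega
        have h2 := hprodmem j hlt
        rw [hI, Finset.prod_insert hj] at h2
        exact ((Sg i).mul_mem_cancel_right (hprodmem j' hlt')).1 h2
  have hgcomm : ∀ z ∈ T, g * z * g⁻¹ = z := fun z hz => by
    rw [hgT z hz, mul_inv_cancel_right]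
  have hall : ∀ i j, b j ∈ Sg i := by
    intro i j
    rcases le_or_gt i j with hij | hij
    · exact hup i j hij
    refine ⟨β j, Subtype.ext ?_, hrep _⟩
    have h0 : ⁅lam j, (β i : G)⁆ = 1 := hS _ (hlamL j) _ (hup j i hij.le) _ (hrep _)
    have hconj : ⁅(β i : G) * lam i, (β j : G) * lam j⁆ = ⁅(β i : G), (β j : G)⁆ := by
      simp only [lam, mul_inv_cancel_left]
      rw [← hgcomm _ (F.comm _ (β i).2 _ (β j).2)]
      simp only [commutatorElement_def]; group
    have hLi := F.lle (hlamL i)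
    have hLj := F.lle (hlamL j)
    rw [F.comm_mul_left (β i).2 hLi (mul_mem (β j).2 hLj), F.comm_mul_right (β i).2 (β j).2 hLj,
      F.comm_mul_right hLi (β j).2 hLj,
      show ⁅(β i : G), lam j⁆ = 1 by rw [← commutatorElement_inv, h0, inv_one],
      show ⁅lam i, lam j⁆ = 1 from
        commutatorElement_eq_one_iff_mul_comm.2 (F.lcomm _ (hlamL i) _ (hlamL j)),
      mul_one, mul_one] at hconj
    exact mul_eq_left.1 hconj
  have hcentral : ∀ l ∈ L, (∀ j, ⁅l, (β j : G)⁆ = 1) → l = 1 := by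
    intro l hl hj
    have htop : (F.kappa l (F.lle hl)).ker.map (QuotientGroup.mk' N) = ⊤ := by
      rw [eq_top_iff, ← hgen, Subgroup.closure_le]
      rintro _ ⟨j, rfl⟩
      exact ⟨β j, Subtype.ext (hj j), hrep _⟩
    have hz : l ∈ L ⊓ T := ⟨hl, F.centre l (F.lle hl) fun y hy =>
      commutatorElement_eq_one_iff_mul_comm.1
        (hS l hl _ (htop ▸ Subgroup.mem_top _) ⟨y, hy⟩ rfl)⟩
    rwa [F.linf, Subgroup.mem_bot] at hz
  have hβ : ∀ i, Commute g (β i : G) := by
    intro i
    have h := hcentral (lam i) (hlamL i) fun j => hS _ (hlamL i) _ (hall i j) _ (hrep _)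
    exact mul_inv_eq_iff_eq_mul.1 (inv_mul_eq_one.1 h).symm
  have hL : ∀ l ∈ L, Commute g l := by
    intro l hl
    have h := hcentral (l⁻¹ * (g * l * g⁻¹)) (L.mul_mem (L.inv_mem hl) (hnormL g hg1 l hl)) fun j => by
      have e : ⁅g * l * g⁻¹, (β j : G)⁆ = ⁅l, (β j : G)⁆ := by
        conv_lhs => rw [← mul_inv_cancel_right (β j : G) g, ← (hβ j).eq]
        rw [← hgcomm _ (F.comm l (F.lle hl) _ (β j).2)]
        simp only [commutatorElement_def]; group
      rw [F.comm_mul_left (F.lle (L.inv_mem hl)) (F.lle (hnormL g hg1 l hl)) (β j).2, e,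
        ← F.comm_mul_left (F.lle (L.inv_mem hl)) (F.lle hl) (β j).2, inv_mul_cancel,
        commutatorElement_one_left]
    exact mul_inv_eq_iff_eq_mul.1 (inv_mul_eq_one.1 h).symm
  have hgB : ∀ y ∈ B, g * y = y * g := by
    intro y hy
    let Z : Subgroup B := (Subgroup.centralizer ({g} : Set G)).subgroupOf B
    have hNZ : N ≤ Z := by
      intro z hz
      obtain ⟨l, hl, t, ht, hlt⟩ := F.mem_sup_iff.1 (hCLT (Subgroup.mem_subgroupOf.1 hz))
      rw [Subgroup.mem_subgroupOf, Subgroup.mem_centralizer_singleton_iff, ← hlt]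
      exact (((hL l hl).mul_right (hgT t ht : Commute g t)).symm).eq
    have hZ : Z.map (QuotientGroup.mk' N) = ⊤ := by
      rw [eq_top_iff, ← hgen, Subgroup.closure_le]
      rintro _ ⟨j, rfl⟩
      refine ⟨β j, ?_, hrep _⟩
      rw [SetLike.mem_coe, Subgroup.mem_subgroupOf, Subgroup.mem_centralizer_singleton_iff]
      exact (hβ j).symm.eq
    obtain ⟨z, hz, hzy⟩ : ((⟨y, hy⟩ : B) : B ⧸ N) ∈ Z.map (QuotientGroup.mk' N) :=
      hZ ▸ Subgroup.mem_top _
    have hmem := Z.mul_mem hz (hNZ (QuotientGroup.eq.1 hzy))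
    rw [mul_inv_cancel_left, Subgroup.mem_subgroupOf, Subgroup.mem_centralizer_singleton_iff] at hmem
    exact hmem.symm
  intro w
  rw [hLay.fpf g (hLay.self g hgT hgB) v hLay.vne hg1, one_smul]

end Cfsg.Agent.H10.BaseTwo
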