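import Mathlib
import Cfsg.Agent.H10.BaseThree.Main
import Cfsg.Agent.H10.BaseTwo.OddPrimitive

/-!
# A solvable group of odd order acting completely reducibly has two vectors with trivial common
stabiliser
-/

namespace Cfsg.Agent.H10.BaseTwo

open scoped commutatorElement
open Cfsg.Agent.H10.BaseThree

universe u v

/-- Two regular pairs in different orbits. -/
def TwoRegular (G W : Type*) [Group G] [AddCommGroup W] [DistribMulAction G W] : Prop :=
  ∃ s : Bool → W × W, (∀ i, Regular2 G (s i)) ∧ ∀ i j, ∀ g : G, g • s i = s j → i = j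

theorem two_of_regular {G W : Type*} [Group G] [Finite G] [AddCommGroup W] [DistribMulAction G W]
    [Nontrivial W] (hodd : Odd (Nat.card G)) (t : W × W) (ht : Regular2 G t) : TwoRegular G W := by
  by_cases hab : t.1 = t.2
  · -- a single vector is regular
    obtain ⟨a, ha, hreg⟩ : ∃ a : W, a ≠ 0 ∧ ∀ g : G, g • a = a → ∀ w : W, g • w = w := by
      by_cases h0 : t.1 = 0
      · obtain ⟨a, ha⟩ := exists_ne (0 : W)
        exact ⟨a, ha, fun g _ => ht g (by rw [h0, smul_zero]) (by rw [← hab, h0, smul_zero])⟩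
      · exact ⟨t.1, h0, fun g hg => ht g hg (hab ▸ hg)⟩
    refine ⟨fun i => if i then (a, 0) else (0, a), fun i g h1 h2 => hreg g ?_, fun i j g h => ?_⟩
    · cases i
      · simpa using h2
      · simpa using h1
    · have h1 := congrArg Prod.fst h
      cases i <;> cases j <;> simp [smul_eq_zero_iff_eq, ha, Ne.symm ha] at h1 ⊢
  · refine ⟨fun i => if i then t else (t.2, t.1), fun i g h1 h2 => ?_, fun i j g h => ?_⟩
    · cases i
      · exact ht g h2 h1
      · exact ht g h1 h2
    · have h1 := congrArg Prod.fst h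
      have h2 := congrArg Prod.snd h
      have key : g • t.1 = t.2 → g • t.2 = t.1 → False := by
        intro e1 e2
        apply hab
        have hsq : ∀ w : W, g ^ 2 • w = w :=
          ht _ (by rw [pow_two, mul_smul, e1, e2]) (by rw [pow_two, mul_smul, e2, e1])
        obtain ⟨k, hk⟩ := hodd
        have hone : g ^ (2 * k + 1) = 1 := by rw [← hk]; exact pow_card_eq_one'
        have hpow : ∀ n : ℕ, (g ^ 2) ^ n • t.2 = t.2 := by
          intro n
          induction n with
          | zero => simp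
          | succ n ih => rw [pow_succ, mul_smul, hsq, ih]
        calc t.1 = g ^ (2 * k + 1) • t.1 := by rw [hone, one_smul]
          _ = t.2 := by rw [pow_succ, pow_mul, mul_smul, e1, hpow]
      cases i <;> cases j <;> simp at h1 h2 ⊢
      · exact key h2 h1
      · exact key h1 h2

/-- Two colours distinguish the points of a primitive solvable group of odd order, provided point
stabilisers have regular pairs on the modules on which they act irreducibly. -/
theorem exists_coset_colouring2 {G : Type u} [Group G] [Finite G] [Group.IsSolvable G]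
    (hodd : Odd (Nat.card G)) {M : Subgroup G} (hM : IsCoatom M)
    (IH : ∀ (Y : Type u) [AddCommGroup Y] [Finite Y] [DistribMulAction M Y],
      Irred M Y → ∃ t : Y × Y, Regular2 M t) :
    ∃ c : G ⧸ M → Bool, ∀ g : G, (∀ q, c (g • q) = c q) → ∀ q : G ⧸ M, g • q = q := by
  classical
  let K := M.normalCore
  have hKM : K ≤ M := M.normalCore_le
  haveI : Nontrivial (G ⧸ K) := QuotientGroup.nontrivial_iff.2 fun h =>
    hM.1 (top_le_iff.1 (h ▸ hKM))
  obtain ⟨A0, hA0n, hA01, hA0c⟩ := exists_abelian_normal (G := G ⧸ K)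
  obtain ⟨A, ⟨⟨hAn, hA1, hAc⟩, hAmin⟩⟩ := (Set.toFinite {A : Subgroup (G ⧸ K) |
    A.Normal ∧ A ≠ ⊥ ∧ ∀ a ∈ A, ∀ b ∈ A, a * b = b * a}).exists_minimal ⟨A0, hA0n, hA01, hA0c⟩
  let N : Subgroup G := A.comap (QuotientGroup.mk' K)
  haveI hNn : N.Normal := hAn.comap _
  have hKN : ∀ k ∈ K, k ∈ N := fun k hk => by
    change QuotientGroup.mk' K k ∈ A
    rw [show QuotientGroup.mk' K k = 1 from (QuotientGroup.eq_one_iff k).2 hk]
    exact one_mem A
  have hNM : N ⊔ M = ⊤ := by
    refine hM.2 _ (lt_of_le_of_ne le_sup_right fun h => hA1 ?_)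
    have hNleM : N ≤ M := h ▸ le_sup_left
    have hNK : N ≤ K := Subgroup.normal_le_normalCore.2 hNleM
    rw [eq_bot_iff]
    intro a ha
    obtain ⟨x, rfl⟩ := QuotientGroup.mk'_surjective K a
    exact Subgroup.mem_bot.2 ((QuotientGroup.eq_one_iff x).2 (hNK ha))
  have hcomm : ∀ a ∈ N, ∀ b ∈ N, ⁅a, b⁆ ∈ K := fun a ha b hb => by
    rw [← QuotientGroup.eq_one_iff]
    exact (map_commutatorElement (QuotientGroup.mk' K) a b).trans
      (commutatorElement_eq_one_iff_mul_comm.2 (hAc _ ha _ hb))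
  have hint : N ⊓ M ≤ K := by
    haveI : (N ⊓ M).Normal := by
      refine ⟨fun x hx g => ?_⟩
      obtain ⟨n, hn, m, hm, rfl⟩ :=
        Subgroup.mem_sup_of_normal_left.1 (hNM ▸ Subgroup.mem_top g : g ∈ N ⊔ M)
      have hy : m * x * m⁻¹ ∈ N ⊓ M :=
        ⟨hNn.conj_mem x hx.1 m, M.mul_mem (M.mul_mem hm hx.2) (M.inv_mem hm)⟩
      set y := m * x * m⁻¹ with hydef
      rw [show n * m * x * (n * m)⁻¹ = ⁅n, y⁆ * y by rw [hydef, commutatorElement_def]; group]
      exact Subgroup.mul_mem _ ⟨hKN _ (hcomm n hn y hy.1), hKM (hcomm n hn y hy.1)⟩ hy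
    exact Subgroup.normal_le_normalCore.2 inf_le_right
  have hrep : ∀ q : G ⧸ M, ∃ n ∈ N, (n : G ⧸ M) = q := by
    intro q
    obtain ⟨n, hn, m, hm, he⟩ :=
      Subgroup.mem_sup_of_normal_left.1 (hNM ▸ Subgroup.mem_top q.out : q.out ∈ N ⊔ M)
    refine ⟨n, hn, ?_⟩
    rw [← QuotientGroup.out_eq' q, ← he, QuotientGroup.eq]
    simpa using hm
  choose nq hnq hnqq using hrep
  letI : CommGroup ↥A := { (inferInstance : Group ↥A) with
    mul_comm := fun a b => Subtype.ext (hAc a a.2 b b.2) }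
  have hAodd : Odd (Nat.card A) :=
    hodd.of_dvd_nat ((Subgroup.card_subgroup_dvd_card A).trans (Subgroup.card_quotient_dvd_card K))
  let conjA : G → (A →* A) := fun m =>
    { toFun := fun a => ⟨QuotientGroup.mk' K m * a.1 * (QuotientGroup.mk' K m)⁻¹,
        hAn.conj_mem _ a.2 _⟩
      map_one' := by apply Subtype.ext; simp
      map_mul' := fun a b => by apply Subtype.ext; simp [mul_assoc] }
  letI act : DistribMulAction M (Additive A) :=
    { smul := fun m a => Additive.ofMul (conjA (m : G) a.toMul)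
      one_smul := fun a => by
        apply Additive.toMul.injective; apply Subtype.ext
        change QuotientGroup.mk' K ((1 : M) : G) * (a.toMul : G ⧸ K) *
          (QuotientGroup.mk' K ((1 : M) : G))⁻¹ = (a.toMul : G ⧸ K)
        rw [Subgroup.coe_one, map_one, inv_one, one_mul, mul_one]
      mul_smul := fun m m' a => by
        apply Additive.toMul.injective; apply Subtype.ext
        change QuotientGroup.mk' K ((m * m' : M) : G) * (a.toMul : G ⧸ K) *
          (QuotientGroup.mk' K ((m * m' : M) : G))⁻¹ =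
          QuotientGroup.mk' K (m : G) * (QuotientGroup.mk' K (m' : G) * (a.toMul : G ⧸ K) *
            (QuotientGroup.mk' K (m' : G))⁻¹) * (QuotientGroup.mk' K (m : G))⁻¹
        rw [Subgroup.coe_mul, map_mul]; group
      smul_zero := fun m => congrArg Additive.ofMul (map_one (conjA (m : G)))
      smul_add := fun m a b => congrArg Additive.ofMul (map_mul (conjA (m : G)) a.toMul b.toMul) }
  have hirrA : Irred M (Additive A) := by
    haveI : Nontrivial A := (Subgroup.nontrivial_iff_ne_bot A).2 hA1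
    refine ⟨inferInstance, fun U hU => ?_⟩
    let U' : Subgroup (G ⧸ K) :=
      { carrier := {x | ∃ h : x ∈ A, Additive.ofMul (⟨x, h⟩ : A) ∈ U}
        mul_mem' := fun {x y} ⟨hx, hxU⟩ ⟨hy, hyU⟩ => ⟨A.mul_mem hx hy, U.add_mem hxU hyU⟩
        one_mem' := ⟨one_mem A, U.zero_mem⟩
        inv_mem' := fun {x} ⟨hx, hxU⟩ => ⟨A.inv_mem hx, U.neg_mem hxU⟩ }
    haveI hU'n : U'.Normal := by
      refine ⟨fun x hx y => ?_⟩
      obtain ⟨hxA, hxU⟩ := hx
      obtain ⟨g, rfl⟩ := QuotientGroup.mk'_surjective K y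
      obtain ⟨n, hn, m, hm, rfl⟩ :=
        Subgroup.mem_sup_of_normal_left.1 (hNM ▸ Subgroup.mem_top g : g ∈ N ⊔ M)
      have h1 := hU ⟨m, hm⟩ _ hxU
      have h2 : QuotientGroup.mk' K (n * m) * x * (QuotientGroup.mk' K (n * m))⁻¹ =
          QuotientGroup.mk' K m * x * (QuotientGroup.mk' K m)⁻¹ := by
        have hz : QuotientGroup.mk' K m * x * (QuotientGroup.mk' K m)⁻¹ ∈ A := hAn.conj_mem x hxA _
        calc QuotientGroup.mk' K (n * m) * x * (QuotientGroup.mk' K (n * m))⁻¹
            = QuotientGroup.mk' K n * (QuotientGroup.mk' K m * x * (QuotientGroup.mk' K m)⁻¹) *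
              (QuotientGroup.mk' K n)⁻¹ := by rw [map_mul]; group
          _ = _ := by rw [hAc _ hn _ hz, mul_inv_cancel_right]
      rw [h2]
      exact ⟨hAn.conj_mem x hxA _, h1⟩
    rcases eq_or_ne U' ⊥ with h | h
    · refine Or.inl ((AddSubgroup.eq_bot_iff_forall U).2 fun a ha => ?_)
      have h' : (a.toMul : G ⧸ K) ∈ U' := ⟨a.toMul.2, ha⟩
      rw [h, Subgroup.mem_bot] at h'
      exact congrArg Additive.ofMul (Subtype.ext h' : a.toMul = 1)
    · have hle : A ≤ U' := hAmin ⟨hU'n, h, fun a ha b hb => hAc a ha.1 b hb.1⟩ fun x hx => hx.1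
      refine Or.inr ((AddSubgroup.eq_top_iff' U).2 fun a => ?_)
      obtain ⟨_, hu⟩ := hle a.toMul.2
      exact hu
  obtain ⟨⟨a₀, b₀⟩, hab⟩ := IH (Additive A) hirrA
  let Good : (A →* A) → Prop := fun φ => ∃ m ∈ M, φ = conjA m
  have hbase : ∀ φ, Good φ → φ a₀.toMul = a₀.toMul → φ b₀.toMul = b₀.toMul → ∀ x, φ x = x := by
    rintro _ ⟨m, hm, rfl⟩ h1 h2 x
    exact congrArg Additive.toMul (hab ⟨m, hm⟩ (congrArg Additive.ofMul h1)
      (congrArg Additive.ofMul h2) (Additive.ofMul x))
  obtain ⟨col, hcol⟩ := exists_affine_set A hAodd Good a₀.toMul b₀.toMul hbase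
  let ψ : G ⧸ M → A := fun q => ⟨QuotientGroup.mk' K (nq q), hnq q⟩
  have hψinj : Function.Injective ψ := fun q q' h => by
    have h' : QuotientGroup.mk' K (nq q) = QuotientGroup.mk' K (nq q') := congrArg Subtype.val h
    rw [← hnqq q, ← hnqq q', QuotientGroup.eq]
    exact hKM (QuotientGroup.eq.1 h')
  refine ⟨fun q => col (ψ q), fun g hg => ?_⟩
  obtain ⟨n, hn, m, hm, rfl⟩ :=
    Subgroup.mem_sup_of_normal_left.1 (hNM ▸ Subgroup.mem_top g : g ∈ N ⊔ M)
  let t : A := ⟨QuotientGroup.mk' K n, hn⟩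
  have hψ : ∀ q, ψ ((n * m) • q) = t * conjA m (ψ q) := by
    intro q
    apply Subtype.ext
    change QuotientGroup.mk' K (nq ((n * m) • q)) = QuotientGroup.mk' K n *
      (QuotientGroup.mk' K m * QuotientGroup.mk' K (nq q) * (QuotientGroup.mk' K m)⁻¹)
    rw [← map_inv, ← map_mul, ← map_mul, ← map_mul]
    have hx : n * (m * nq q * m⁻¹) ∈ N := N.mul_mem hn (hNn.conj_mem _ (hnq q) m)
    refine QuotientGroup.eq.2 (hint ⟨N.mul_mem (N.inv_mem (hnq _)) hx, QuotientGroup.eq.1 ?_⟩)
    conv_lhs => rw [hnqq, ← hnqq q, MulAction.Quotient.smul_coe, smul_eq_mul]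
    rw [QuotientGroup.eq]
    have he : (n * m * nq q)⁻¹ * (n * (m * nq q * m⁻¹)) = m⁻¹ := by group
    rw [he]
    exact M.inv_mem hm
  have hsurj : ∀ x : A, ∃ q, ψ q = x := by
    intro x
    obtain ⟨y, hy⟩ := QuotientGroup.mk'_surjective K (x : G ⧸ K)
    have hyN : y ∈ N := by change QuotientGroup.mk' K y ∈ A; rw [hy]; exact x.2
    refine ⟨(y : G ⧸ M), Subtype.ext ?_⟩
    change QuotientGroup.mk' K (nq (y : G ⧸ M)) = (x : G ⧸ K)
    rw [← hy]
    exact QuotientGroup.eq.2 (hint ⟨N.mul_mem (N.inv_mem (hnq _)) hyN, QuotientGroup.eq.1 (hnqq _)⟩)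
  have hiter : ∀ (j : ℕ) q, (fun y => t * conjA m y)^[j] (ψ q) = ψ ((n * m) ^ j • q) := by
    intro j
    induction j with
    | zero => intro q; simp
    | succ j ih =>
      intro q
      rw [Function.iterate_succ', Function.comp_apply, ih, ← hψ, ← mul_smul, pow_succ']
  have hinjφ : Function.Injective (conjA m) := fun a b h =>
    Subtype.ext (mul_left_cancel (mul_right_cancel (congrArg Subtype.val h)))
  obtain ⟨ht, hφ⟩ := hcol t (conjA m) ⟨m, hm, rfl⟩ hinjφ (orderOf (n * m))
    (hodd.of_dvd_nat (orderOf_dvd_natCard _))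
    (fun x => by
      obtain ⟨q, rfl⟩ := hsurj x
      rw [hiter, pow_orderOf_eq_one, one_smul])
    (fun x => by
      obtain ⟨q, rfl⟩ := hsurj x
      rw [← hψ]
      exact hg q)
  intro q
  apply hψinj
  rw [hψ, ht, one_mul, hφ]

section Combine

variable {G V : Type*} [Group G] [AddCommGroup V] [DistribMulAction G V] [Finite G]
  {e : AddMonoid.End V}

theorem regular2_of_block (hirr : Irred G V) (he : IsBlock G e)
    (c : G ⧸ blockStab G e → Bool)
    (hc : ∀ g : G, (∀ q, c (g • q) = c q) → ∀ q : G ⧸ blockStab G e, g • q = q)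
    (h2 : TwoRegular (blockStab G e) (blockSpace e)) : ∃ t : V × V, Regular2 G t := by
  classical
  have := Fintype.ofFinite (G ⧸ blockStab G e)
  obtain ⟨s, hs, hinj⟩ := h2
  let put : (blockSpace e × blockSpace e → blockSpace e) → V := fun π =>
    ∑ q : G ⧸ blockStab G e, q.out • ((π (s (c q)) : blockSpace e) : V)
  have hput : ∀ π q, e (q.out⁻¹ • put π) = ((π (s (c q)) : blockSpace e) : V) := by
    intro π q
    change e (q.out⁻¹ • ∑ q' : G ⧸ blockStab G e, _) = _
    rw [Finset.smul_sum, map_sum, Finset.sum_eq_single q]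
    · rw [inv_smul_smul]; exact (π (s (c q))).2
    · intro q' _ hne
      have h1 := DFunLike.congr_fun (trans_orth he hne.symm)
        (q'.out • ((π (s (c q')) : blockSpace e) : V))
      rw [AddMonoid.End.coe_mul, Function.comp_apply, BaseThree.trans, BaseThree.trans, cnj_apply, cnj_apply,
        inv_smul_smul, (π (s (c q'))).2] at h1
      exact (smul_eq_zero_iff_eq _).1 h1
    · simp
  refine ⟨(put Prod.fst, put Prod.snd), fun g h1 h2 => ?_⟩
  have hm : ∀ q : G ⧸ blockStab G e, (g • q).out⁻¹ * (g * q.out) ∈ blockStab G e := fun q =>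
    QuotientGroup.eq.1 (by
      rw [QuotientGroup.out_eq', ← smul_eq_mul, ← MulAction.Quotient.smul_coe,
        QuotientGroup.out_eq'])
  have key : ∀ π, g • put π = put π → ∀ q, (⟨_, hm q⟩ : blockStab G e) • π (s (c q)) =
      π (s (c (g • q))) := by
    intro π hfix q
    apply Subtype.ext
    rw [coe_blockAction, ← hput π q, ← hput π (g • q), ← smul_apply_of_mem (hm q)]
    congr 1
    rw [smul_smul, show (g • q).out⁻¹ * (g * q.out) * q.out⁻¹ = (g • q).out⁻¹ * g by group,
      mul_smul, hfix]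
  have key2 : ∀ q, (⟨_, hm q⟩ : blockStab G e) • s (c q) = s (c (g • q)) := fun q =>
    Prod.ext (key Prod.fst h1 q) (key Prod.snd h2 q)
  have hq : ∀ q : G ⧸ blockStab G e, g • q = q :=
    hc g fun q => (hinj _ _ _ (key2 q)).symm
  have hW : ∀ (q : G ⧸ blockStab G e) (w : V), e w = w → g • (q.out • w) = q.out • w := by
    intro q w hw
    have h4 := key2 q
    rw [← hinj _ _ _ (key2 q)] at h4
    have h5 := congrArg Subtype.val (hs (c q) _ (congrArg Prod.fst h4)
      (congrArg Prod.snd h4) ⟨w, hw⟩)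
    rw [coe_blockAction] at h5
    change ((g • q).out⁻¹ * (g * q.out)) • w = w at h5
    rw [hq q, mul_smul, inv_smul_eq_iff, mul_smul] at h5
    exact h5
  intro w
  conv_rhs => rw [← sum_trans hirr he w]
  rw [← sum_trans hirr he w, Finset.smul_sum, sum_trans hirr he w]
  refine Finset.sum_congr rfl fun q _ => ?_
  rw [BaseThree.trans, cnj_apply]
  exact hW q _ (DFunLike.congr_fun he.idem _)

end Combine

/-- Irreducible faithful solvable groups of odd order have a regular pair. -/
theorem regular2_units : ∀ (n : ℕ) (V : Type v) [AddCommGroup V] [Finite V]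
    (H : Subgroup (AddMonoid.End V)ˣ) [Group.IsSolvable H],
      Nat.card H = n → Odd n → Irred H V → ∃ t : V × V, Regular2 H t := by
  intro n
  induction n using Nat.strong_induction_on with
  | _ n ih =>
    intro V _ _ H _ hn hodd hirr
    haveI : Finite (AddMonoid.End V)ˣ :=
      Finite.of_injective _ (Units.val_injective (α := AddMonoid.End V))
    have hfaith : ∀ h : H, (∀ v : V, h • v = v) → h = 1 := fun h hh =>
      Subtype.ext (Units.ext (AddMonoidHom.ext fun v => hh v))
    rw [← hn] at hodd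
    by_cases hb : ∃ e : AddMonoid.End V, IsBlock H e
    swap
    · push Not at hb
      exact regular2_of_no_block hodd hirr hfaith hb
    obtain ⟨e, he, hmax⟩ := exists_maximal_block hirr hb
    have hModd : Odd (Nat.card (blockStab H e)) :=
      hodd.of_dvd_nat (Subgroup.card_subgroup_dvd_card _)
    have hlt : Nat.card (blockStab H e) < n := by
      rw [← hn]
      exact lt_of_le_of_ne (Nat.le_of_dvd Nat.card_pos (Subgroup.card_subgroup_dvd_card _))
        fun h => hmax.1 (Subgroup.eq_top_of_card_eq _ h)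
    have IH : ∀ (Y : Type v) [AddCommGroup Y] [Finite Y] [DistribMulAction (blockStab H e) Y],
        Irred (blockStab H e) Y → ∃ t : Y × Y, Regular2 (blockStab H e) t := by
      intro Y _ _ _ hY
      let ρ := (DistribMulAction.toAddMonoidEnd (blockStab H e) Y).toHomUnits
      haveI : Group.IsSolvable (image (blockStab H e) Y) :=
        Group.isSolvable_of_surjective ρ.rangeRestrict_surjective
      have hdvd : Nat.card (image (blockStab H e) Y) ∣ Nat.card (blockStab H e) :=
        Subgroup.card_range_dvd ρ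
      have hY' : Irred (image (blockStab H e) Y) Y :=
        ⟨hY.1, fun U hU => hY.2 U fun g w hw => hU ⟨ρ g, ⟨g, rfl⟩⟩ w hw⟩
      obtain ⟨t, ht⟩ := ih _ (lt_of_le_of_lt (Nat.le_of_dvd Nat.card_pos hdvd) hlt) Y
        (image (blockStab H e) Y) rfl (hModd.of_dvd_nat hdvd) hY'
      exact ⟨t, fun g h1 h2 w => ht ⟨ρ g, ⟨g, rfl⟩⟩ h1 h2 w⟩
    have hirrW : Irred (blockStab H e) (blockSpace e) := irred_blockSpace hirr he
    obtain ⟨t, ht⟩ := IH (blockSpace e) hirrW
    haveI := hirrW.1
    obtain ⟨c, hc⟩ := exists_coset_colouring2 hodd hmax IH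
    exact regular2_of_block hirr he c hc (two_of_regular hModd t ht)

theorem exists_regular2_irred {G : Type u} {V : Type v} [Group G] [Finite G] [AddCommGroup V]
    [Finite V] [DistribMulAction G V] [Group.IsSolvable G] (hodd : Odd (Nat.card G))
    (hirr : Irred G V) : ∃ t : V × V, Regular2 G t := by
  let ρ := (DistribMulAction.toAddMonoidEnd G V).toHomUnits
  haveI : Group.IsSolvable (image G V) := Group.isSolvable_of_surjective ρ.rangeRestrict_surjective
  have hirr' : Irred (image G V) V :=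
    ⟨hirr.1, fun U hU => hirr.2 U fun g w hw => hU ⟨ρ g, ⟨g, rfl⟩⟩ w hw⟩
  obtain ⟨t, ht⟩ := regular2_units _ V (image G V) rfl
    (hodd.of_dvd_nat (Subgroup.card_range_dvd ρ)) hirr'
  exact ⟨t, fun g h1 h2 w => ht ⟨ρ g, ⟨g, rfl⟩⟩ h1 h2 w⟩

/-- Gluing regular pairs over irreducible summands. -/
theorem exists_pair_of_completelyReducible {G : Type u} {V : Type v} [Group G] [AddCommGroup V]
    [Finite V] [DistribMulAction G V]
    (hpair : ∀ (S : Type v) [AddCommGroup S] [Finite S] [DistribMulAction G S],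
      Irred G S → ∀ ι : S →+ V, Function.Injective ι → (∀ g : G, ∀ s, ι (g • s) = g • ι s) →
        ∃ t : S × S, Regular2 G t)
    (hcr : ∀ U : AddSubgroup V, (∀ a : G, ∀ x ∈ U, a • x ∈ U) →
      ∃ W : AddSubgroup V, (∀ a : G, ∀ w ∈ W, a • w ∈ W) ∧ U ⊓ W = ⊥ ∧ U ⊔ W = ⊤)
    (S : AddSubgroup V) (hS : ∀ a : G, ∀ x ∈ S, a • x ∈ S) :
    ∃ t : V × V, (t.1 ∈ S ∧ t.2 ∈ S) ∧
      ∀ g : G, g • t.1 = t.1 → g • t.2 = t.2 → ∀ x ∈ S, g • x = x := by
  classical
  induction hn : Nat.card S using Nat.strong_induction_on generalizing S with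
  | _ n ih =>
    by_cases hbot : S = ⊥
    · exact ⟨(0, 0), ⟨S.zero_mem, S.zero_mem⟩, fun g _ _ x hx => by
        rw [hbot, AddSubgroup.mem_bot] at hx
        rw [hx, smul_zero]⟩
    by_cases hirrS : ∀ U : AddSubgroup V, U ≤ S → (∀ a : G, ∀ x ∈ U, a • x ∈ U) → U = ⊥ ∨ U = S
    · letI inst : DistribMulAction G S :=
        { smul := fun g x => ⟨g • (x : V), hS g x x.2⟩
          one_smul := fun x => Subtype.ext (one_smul G (x : V))
          mul_smul := fun g h x => Subtype.ext (mul_smul g h (x : V))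
          smul_zero := fun g => Subtype.ext (smul_zero g)
          smul_add := fun g a b => Subtype.ext (smul_add g (a : V) (b : V)) }
      have hirr : Irred G S := by
        refine ⟨(AddSubgroup.nontrivial_iff_ne_bot S).2 hbot, fun U hU => ?_⟩
        rcases hirrS (U.map S.subtype) (fun x ⟨y, _, hy⟩ => hy ▸ y.2) (fun a x ⟨y, hy, hxy⟩ =>
          ⟨a • y, hU a y hy, by subst hxy; rfl⟩) with h | h
        · exact Or.inl ((AddSubgroup.map_eq_bot_iff_of_injective U S.subtype_injective).1 h)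
        · refine Or.inr ((AddSubgroup.eq_top_iff' U).2 fun x => ?_)
          obtain ⟨y, hy, hyx⟩ : (x : V) ∈ U.map S.subtype := h.symm ▸ x.2
          exact (Subtype.ext hyx : y = x) ▸ hy
      obtain ⟨t, ht⟩ := hpair S hirr S.subtype S.subtype_injective (fun g s => rfl)
      refine ⟨((t.1 : V), (t.2 : V)), ⟨t.1.2, t.2.2⟩, fun g h1 h2 x hx => ?_⟩
      exact congrArg Subtype.val (ht g (Subtype.ext h1) (Subtype.ext h2) ⟨x, hx⟩)
    · push Not at hirrS
      obtain ⟨U, hUS, hUinv, hU0, hUne⟩ := hirrS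
      obtain ⟨W', hWinv, hinf, hsup⟩ := hcr U hUinv
      let W := W' ⊓ S
      have hWS : W ≤ S := inf_le_right
      have hinvW : ∀ a : G, ∀ x ∈ W, a • x ∈ W := fun a x hx => ⟨hWinv a x hx.1, hS a x hx.2⟩
      have hdecomp : ∀ x ∈ S, ∃ u ∈ U, ∃ w ∈ W, u + w = x := by
        intro x hx
        have hxT : x ∈ U ⊔ W' := by rw [hsup]; exact AddSubgroup.mem_top x
        obtain ⟨u, hu, w, hw, rfl⟩ := AddSubgroup.mem_sup.1 hxT
        refine ⟨u, hu, w, ⟨hw, ?_⟩, rfl⟩
        have := S.sub_mem hx (hUS hu)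
        rwa [add_sub_cancel_left] at this
      have hWne : W ≠ S := fun h => hU0 ((AddSubgroup.eq_bot_iff_forall U).2 fun u hu => by
        have h1 : u ∈ W := h.symm ▸ hUS hu
        exact AddSubgroup.mem_bot.1 (hinf ▸ (⟨hu, h1.1⟩ : u ∈ U ⊓ W')))
      have hcard : ∀ A : AddSubgroup V, A ≤ S → A ≠ S → Nat.card A < n := fun A hA hne => by
        rw [← hn]
        exact Set.ncard_lt_ncard (lt_of_le_of_ne hA hne : A < S) (Set.toFinite _)
      obtain ⟨t, ⟨t1, t2⟩, ht⟩ := ih _ (hcard U hUS hUne) U hUinv rfl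
      obtain ⟨s, ⟨s1, s2⟩, hs⟩ := ih _ (hcard W hWS hWne) W hinvW rfl
      have hsplit : ∀ g : G, ∀ u ∈ U, ∀ w ∈ W, g • (u + w) = u + w → g • u = u ∧ g • w = w := by
        intro g u hu w hw he
        have hd : g • u - u = w - g • w := by
          rw [smul_add] at he
          rw [sub_eq_sub_iff_add_eq_add, he, add_comm]
        have h0 : g • u - u ∈ U ⊓ W' :=
          ⟨U.sub_mem (hUinv g u hu) hu, hd ▸ W'.sub_mem hw.1 (hWinv g w hw.1)⟩
        rw [hinf, AddSubgroup.mem_bot] at h0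
        exact ⟨sub_eq_zero.1 h0, (sub_eq_zero.1 (hd.symm.trans h0)).symm⟩
      refine ⟨(t.1 + s.1, t.2 + s.2),
        ⟨S.add_mem (hUS t1) (hWS s1), S.add_mem (hUS t2) (hWS s2)⟩, fun g h1 h2 x hx => ?_⟩
      obtain ⟨a1, b1⟩ := hsplit g _ t1 _ s1 h1
      obtain ⟨a2, b2⟩ := hsplit g _ t2 _ s2 h2
      obtain ⟨u, hu, w, hw, rfl⟩ := hdecomp x hx
      rw [smul_add, ht g a1 a2 u hu, hs g b1 b2 w hw]

end Cfsg.Agent.H10.BaseTwo
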